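import Cfsg.Agent.Lib.SRG77.Psd
import Mathlib.Tactic.IntervalCases

/-!
# Triples and quintuples of pairwise non-adjacent vertices

Three pairwise non-adjacent vertices have at most two common neighbours, and those with none make
up quintuples; a vertex outside a quintuple has no or two neighbours in it.
-/

set_option autoImplicit false

namespace Cfsg.Agent.SRG77

open Finset

variable {V : Type*} [Fintype V] [DecidableEq V] {G : SimpleGraph V} [DecidableRel G.Adj]

theorem comm_indep (hG : G.IsSRGWith 77 16 0 4) {a p q : V} (hp : G.Adj a p) (hq : G.Adj a q) :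
    ¬ G.Adj p q := no_triangle hG hp hq

theorem indep_nb (hG : G.IsSRGWith 77 16 0 4) (a b c : V) :
    ∀ p ∈ comm G a b, ∀ q ∈ comm G a c, ¬ G.Adj p q := fun _ hp _ hq =>
  no_triangle hG (mem_comm.1 hp).1 (mem_comm.1 hq).1

theorem form_comm_comm (hG : G.IsSRGWith 77 16 0 4) {a b c : V} (hab : a ≠ b) (nab : ¬ G.Adj a b)
    (hac : a ≠ c) (nac : ¬ G.Adj a c) :
    form G (comm G a b) (comm G a c) = 22 * ((comm G a b ∩ nb G c).card : ℤ) + 32 := by
  rw [form_indep _ _ (indep_nb hG a b c), card_comm_four hG hab nab, card_comm_four hG hac nac]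
  have e : comm G a b ∩ comm G a c = comm G a b ∩ nb G c := by
    ext z
    simp [mem_comm, mem_nb]
    tauto
  rw [e]
  norm_num

theorem form_own (hG : G.IsSRGWith 77 16 0 4) {a b : V} (hab : a ≠ b) (nab : ¬ G.Adj a b) :
    form G (comm G a b) (comm G a b) = 120 := by
  rw [form_comm_comm hG hab nab hab nab]
  have e : comm G a b ∩ nb G b = comm G a b := by
    ext z
    simp [mem_comm, mem_nb]
  rw [e, card_comm_four hG hab nab]
  norm_num

theorem form_vertex (hG : G.IsSRGWith 77 16 0 4) {a b v : V} (hab : a ≠ b) (nab : ¬ G.Adj a b)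
    (hv : v = a ∨ ¬ G.Adj a v) :
    form G {v} (comm G a b) = 8 - 11 * ((comm G a b ∩ nb G v).card : ℤ) := by
  rw [form_single_left, card_comm_four hG hab nab, if_neg]
  · ring
  · intro h
    have h1 := (mem_comm.1 h).1
    rcases hv with rfl | hv
    · exact G.loopless.irrefl _ h1
    · exact hv h1

theorem form_first (hG : G.IsSRGWith 77 16 0 4) {a b : V} (hab : a ≠ b) (nab : ¬ G.Adj a b) :
    form G {a} (comm G a b) = -36 := by
  rw [form_vertex hG hab nab (Or.inl rfl)]
  have e : comm G a b ∩ nb G a = comm G a b := by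
    ext z
    simp [mem_comm, mem_nb]
    tauto
  rw [e, card_comm_four hG hab nab]
  norm_num

theorem form_second (hG : G.IsSRGWith 77 16 0 4) {a b : V} (hab : a ≠ b) (nab : ¬ G.Adj a b) :
    form G {b} (comm G a b) = -36 := by
  rw [form_vertex hG hab nab (Or.inr nab)]
  have e : comm G a b ∩ nb G b = comm G a b := by
    ext z
    simp [mem_comm, mem_nb]
  rw [e, card_comm_four hG hab nab]
  norm_num

theorem form_self (v : V) : form G {v} {v} = 24 := by
  simp [form_single, ent]

theorem form_nonadj {u v : V} (h : u ≠ v) (hn : ¬ G.Adj u v) : form G {u} {v} = 2 := by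
  simp [form_single, ent, h, hn]

theorem card_le_two (hG : G.IsSRGWith 77 16 0 4) {a b c : V} (hab : a ≠ b) (hac : a ≠ c) (hbc : b ≠ c)
    (nab : ¬ G.Adj a b) (nac : ¬ G.Adj a c) (nbc : ¬ G.Adj b c) :
    (comm G a b ∩ nb G c).card ≤ 2 := by
  have ei : comm G a c ∩ nb G b = comm G a b ∩ nb G c := by
    ext z
    simp [mem_comm, mem_nb]
    tauto
  have h := form_nonneg hG ![2, 2, 2, 1, 1] ![{a}, {b}, {c}, comm G a b, comm G a c]
  set i : ℤ := ((comm G a b ∩ nb G c).card : ℤ) with hi
  have v1 := form_first hG hab nab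
  have v2 := form_first hG hac nac
  have v3 := form_second hG hab nab
  have v4 := form_second hG hac nac
  have v5 : form G {b} (comm G a c) = 8 - 11 * i := by rw [form_vertex hG hac nac (Or.inr nab), ei]
  have v6 : form G {c} (comm G a b) = 8 - 11 * i := form_vertex hG hab nab (Or.inr nac)
  have v7 := form_own hG hab nab
  have v8 := form_own hG hac nac
  have v9 : form G (comm G a b) (comm G a c) = 22 * i + 32 := form_comm_comm hG hab nab hac nac
  simp only [Fin.sum_univ_five, Matrix.cons_val_zero, Matrix.cons_val_one, Matrix.cons_val,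
    form_comm (comm G a b) {a}, form_comm (comm G a b) {b}, form_comm (comm G a b) {c},
    form_comm (comm G a c) {a}, form_comm (comm G a c) {b}, form_comm (comm G a c) {c},
    form_comm (comm G a c) (comm G a b), form_self, form_nonadj hab nab, form_nonadj hac nac,
    form_nonadj hbc nbc, form_comm {b} {a}, form_comm {c} {a}, form_comm {c} {b},
    v1, v2, v3, v4, v5, v6, v7, v8, v9] at h
  have : ((comm G a b ∩ nb G c).card : ℤ) ≤ 2 := by rw [← hi]; linarith
  exact_mod_cast this

variable (G) in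
/-- Three pairwise non-adjacent vertices without common neighbour. -/
def T0 (a b c : V) : Prop :=
  a ≠ b ∧ a ≠ c ∧ b ≠ c ∧ ¬ G.Adj a b ∧ ¬ G.Adj a c ∧ ¬ G.Adj b c ∧
    ∀ z, G.Adj a z → G.Adj b z → ¬ G.Adj c z

instance (a b c : V) : Decidable (T0 G a b c) := by unfold T0; infer_instance

theorem T0.swap₁₂ {a b c : V} (h : T0 G a b c) : T0 G b a c :=
  ⟨h.1.symm, h.2.2.1, h.2.1, fun e => h.2.2.2.1 e.symm, h.2.2.2.2.2.1, h.2.2.2.2.1,
    fun z hb ha => h.2.2.2.2.2.2 z ha hb⟩

theorem T0.swap₂₃ {a b c : V} (h : T0 G a b c) : T0 G a c b :=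
  ⟨h.2.1, h.1, h.2.2.1.symm, h.2.2.2.2.1, h.2.2.2.1, fun e => h.2.2.2.2.2.1 e.symm,
    fun z ha hc hb => h.2.2.2.2.2.2 z ha hb hc⟩

theorem T0.inter_empty {a b c : V} (h : T0 G a b c) : (comm G a b ∩ nb G c).card = 0 := by
  rw [card_eq_zero]
  refine eq_empty_of_forall_notMem fun z hz => ?_
  rw [mem_inter, mem_comm, mem_nb] at hz
  exact h.2.2.2.2.2.2 z hz.1.1 hz.1.2 hz.2

theorem T0.trans (hG : G.IsSRGWith 77 16 0 4) {x b c d : V} (hc : T0 G x b c) (hd : T0 G x b d)
    (hcd : c ≠ d) : T0 G x c d := by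
  obtain ⟨hxb, hxc, hbc, nxb, nxc, nbc, -⟩ := id hc
  obtain ⟨-, hxd, hbd, -, nxd, nbd, -⟩ := id hd
  have ec : (comm G x c ∩ nb G b).card = 0 := hc.swap₂₃.inter_empty
  have ed : (comm G x d ∩ nb G b).card = 0 := hd.swap₂₃.inter_empty
  have eb : (comm G x b ∩ nb G c).card = 0 := hc.inter_empty
  have eb' : (comm G x b ∩ nb G d).card = 0 := hd.inter_empty
  have ei : comm G x d ∩ nb G c = comm G x c ∩ nb G d := by
    ext z
    simp [mem_comm, mem_nb]
    tauto
  set i : ℤ := ((comm G x c ∩ nb G d).card : ℤ) with hi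
  set t : ℤ := form G {c} {d} with ht
  have h := form_nonneg hG ![1, -2, 2, 2, -1, 1, 1]
    ![{x}, {b}, {c}, {d}, comm G x b, comm G x c, comm G x d]
  have v1 := form_first hG hxb nxb
  have v2 := form_first hG hxc nxc
  have v3 := form_first hG hxd nxd
  have v4 := form_second hG hxb nxb
  have v5 := form_second hG hxc nxc
  have v6 := form_second hG hxd nxd
  have v7 : form G {b} (comm G x c) = 8 := by rw [form_vertex hG hxc nxc (Or.inr nxb), ec]; norm_num
  have v8 : form G {b} (comm G x d) = 8 := by rw [form_vertex hG hxd nxd (Or.inr nxb), ed]; norm_num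
  have v9 : form G {c} (comm G x b) = 8 := by rw [form_vertex hG hxb nxb (Or.inr nxc), eb]; norm_num
  have v10 : form G {d} (comm G x b) = 8 := by rw [form_vertex hG hxb nxb (Or.inr nxd), eb']; norm_num
  have v11 : form G {c} (comm G x d) = 8 - 11 * i := by rw [form_vertex hG hxd nxd (Or.inr nxc), ei]
  have v12 : form G {d} (comm G x c) = 8 - 11 * i := form_vertex hG hxc nxc (Or.inr nxd)
  have v13 := form_own hG hxb nxb
  have v14 := form_own hG hxc nxc
  have v15 := form_own hG hxd nxd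
  have v16 : form G (comm G x b) (comm G x c) = 32 := by
    rw [form_comm_comm hG hxb nxb hxc nxc, eb]; norm_num
  have v17 : form G (comm G x b) (comm G x d) = 32 := by
    rw [form_comm_comm hG hxb nxb hxd nxd, eb']; norm_num
  have v18 : form G (comm G x c) (comm G x d) = 22 * i + 32 := form_comm_comm hG hxc nxc hxd nxd
  simp only [Fin.sum_univ_seven, Matrix.cons_val_zero, Matrix.cons_val_one, Matrix.cons_val,
    form_comm (comm G x b) {x}, form_comm (comm G x b) {b}, form_comm (comm G x b) {c},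
    form_comm (comm G x b) {d}, form_comm (comm G x c) {x}, form_comm (comm G x c) {b},
    form_comm (comm G x c) {c}, form_comm (comm G x c) {d}, form_comm (comm G x d) {x},
    form_comm (comm G x d) {b}, form_comm (comm G x d) {c}, form_comm (comm G x d) {d},
    form_comm (comm G x c) (comm G x b), form_comm (comm G x d) (comm G x b),
    form_comm (comm G x d) (comm G x c), form_self, form_nonadj hxb nxb, form_nonadj hxc nxc,
    form_nonadj hxd nxd, form_nonadj hbc nbc, form_nonadj hbd nbd, form_comm {b} {x},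
    form_comm {c} {x}, form_comm {d} {x}, form_comm {c} {b}, form_comm {d} {b}, form_comm {d} {c},
    ← ht, v1, v2, v3, v4, v5, v6, v7, v8, v9, v10, v11, v12, v13, v14, v15, v16, v17, v18] at h
  have hi0 : 0 ≤ i := by rw [hi]; exact_mod_cast Nat.zero_le _
  have ncd : ¬ G.Adj c d := by
    intro hadj
    have : t = -9 := by rw [ht]; simp [form_single, ent, hcd, hadj]
    linarith
  have t2 : t = 2 := by rw [ht]; exact form_nonadj hcd ncd
  refine ⟨hxc, hxd, hcd, nxc, nxd, ncd, fun z hz1 hz2 hz3 => ?_⟩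
  have h1 : (1 : ℤ) ≤ i := by
    rw [hi]
    exact_mod_cast card_pos.2 ⟨z, mem_inter.2 ⟨mem_comm.2 ⟨hz1, hz2⟩, mem_nb.2 hz3⟩⟩
  linarith

variable (G) in
/-- The vertices completing a non-adjacent pair to a triple without common neighbour. -/
def ext3 (x b : V) : Finset V := univ.filter fun c => T0 G x b c

theorem mem_ext3 {x b c : V} : c ∈ ext3 G x b ↔ T0 G x b c := by simp [ext3]

theorem card_ext3 (hG : G.IsSRGWith 77 16 0 4) {x b : V} (hxb : x ≠ b) (nxb : ¬ G.Adj x b) :
    (ext3 G x b).card = 3 := by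
  classical
  set U : Finset V := univ.filter fun c => c ≠ x ∧ c ≠ b ∧ ¬ G.Adj x c ∧ ¬ G.Adj b c with hU
  set P := comm G x b with hP
  have hPc : P.card = 4 := card_comm_four hG hxb nxb
  set f : V → ℤ := fun c => ((P ∩ nb G c).card : ℤ) with hf
  have hUc : U.card = 47 := by
    have e : U = (({x, b} : Finset V) ∪ (nb G x ∪ nb G b))ᶜ := by
      ext c
      simp [hU, mem_nb, and_assoc]
    have h1 : (nb G x ∪ nb G b).card + 4 = 32 := by
      rw [← hPc, hP, comm_eq_inter, card_union_add_card_inter, card_nb hG, card_nb hG]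
    rw [e, card_compl, hG.card, card_union_of_disjoint, card_pair hxb]
    · omega
    · rw [disjoint_left]
      intro c hc
      rcases mem_insert.1 hc with rfl | hc
      · simp only [mem_union, mem_nb]
        rintro (h | h)
        · exact G.loopless.irrefl _ h
        · exact nxb h.symm
      · rw [mem_singleton.1 hc]
        simp only [mem_union, mem_nb]
        rintro (h | h)
        · exact nxb h
        · exact G.loopless.irrefl _ h
  have hp : ∀ p ∈ P, ∀ q ∈ P, ((U.filter fun c => G.Adj c p ∧ G.Adj c q).card : ℤ)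
      = if p = q then 14 else 2 := by
    intro p hp q hq
    rw [hP, mem_comm] at hp hq
    have e : U.filter (fun c => G.Adj c p ∧ G.Adj c q) = ((comm G p q).erase x).erase b := by
      ext c
      simp only [hU, mem_filter, mem_univ, true_and, mem_erase, mem_comm, ne_eq]
      constructor
      · rintro ⟨⟨h1, h2, -, -⟩, h3, h4⟩
        exact ⟨h2, h1, h3.symm, h4.symm⟩
      · rintro ⟨h1, h2, h3, h4⟩
        exact ⟨⟨h2, h1, no_triangle hG hp.1.symm h3, no_triangle hG hp.2.symm h3⟩, h3.symm, h4.symm⟩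
    rw [e, card_erase_of_mem (mem_erase.2 ⟨hxb.symm, mem_comm.2 ⟨hp.2.symm, hq.2.symm⟩⟩),
      card_erase_of_mem (mem_comm.2 ⟨hp.1.symm, hq.1.symm⟩)]
    split_ifs with h
    · subst h
      rw [comm_eq_inter, inter_self, card_nb hG]
      norm_num
    · rw [card_comm_four hG h (no_triangle hG hp.1 hq.1)]
      norm_num
  have hsq : ∑ c ∈ U, f c * f c = 80 := by
    have e : ∀ c, f c * f c = ∑ p ∈ P, ∑ q ∈ P, (if G.Adj c p ∧ G.Adj c q then (1 : ℤ) else 0) := by
      intro c
      have e1 : f c = ∑ p ∈ P, (if G.Adj c p then (1 : ℤ) else 0) := by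
        rw [hf, sum_boole]
        exact congrArg (fun s : Finset V => (s.card : ℤ)) (by ext z; simp [mem_nb])
      rw [e1, sum_mul_sum]
      refine sum_congr rfl fun p _ => sum_congr rfl fun q _ => ?_
      split_ifs <;> simp_all
    have e2 : ∀ p ∈ P, ∑ c ∈ U, ∑ q ∈ P, (if G.Adj c p ∧ G.Adj c q then (1 : ℤ) else 0) = 20 := by
      intro p hp'
      rw [sum_comm]
      have e3 : ∀ q ∈ P, ∑ c ∈ U, (if G.Adj c p ∧ G.Adj c q then (1 : ℤ) else 0)
          = if p = q then 14 else 2 := fun q hq => by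
        rw [← hp p hp' q hq, sum_boole]
      rw [sum_congr rfl e3, ← add_sum_erase _ _ hp', if_pos rfl,
        sum_congr rfl fun q hq => if_neg (ne_of_mem_erase hq).symm, sum_const, card_erase_of_mem hp',
        hPc]
      norm_num
    rw [sum_congr rfl fun c _ => e c, sum_comm, sum_congr rfl e2, sum_const, hPc]
    norm_num
  have hone : ∑ c ∈ U, f c = 56 := by
    have e1 : ∀ c, f c = ∑ p ∈ P, (if G.Adj c p ∧ G.Adj c p then (1 : ℤ) else 0) := by
      intro c
      rw [hf, sum_boole]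
      exact congrArg (fun s : Finset V => (s.card : ℤ)) (by ext z; simp [mem_nb])
    have e2 : ∀ p ∈ P, ∑ c ∈ U, (if G.Adj c p ∧ G.Adj c p then (1 : ℤ) else 0) = 14 := fun p hp' => by
      have := hp p hp' p hp'
      rw [if_pos rfl] at this
      rw [← this, sum_boole]
    rw [sum_congr rfl fun c _ => e1 c, sum_comm, sum_congr rfl e2, sum_const, hPc]
    norm_num
  have hzero : ext3 G x b = U.filter fun c => f c = 0 := by
    ext c
    simp only [mem_ext3, hU, hf, hP, mem_filter, mem_univ, true_and, Nat.cast_eq_zero]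
    constructor
    · intro h
      exact ⟨⟨h.2.1.symm, h.2.2.1.symm, h.2.2.2.2.1, h.2.2.2.2.2.1⟩, h.inter_empty⟩
    · rintro ⟨⟨h1, h2, h3, h4⟩, h5⟩
      refine ⟨hxb, Ne.symm h1, Ne.symm h2, nxb, h3, h4, fun z hz1 hz2 hz3 => ?_⟩
      rw [card_eq_zero] at h5
      have hz : z ∈ comm G x b ∩ nb G c := mem_inter.2 ⟨mem_comm.2 ⟨hz1, hz2⟩, mem_nb.2 hz3⟩
      rw [h5] at hz
      exact Finset.notMem_empty z hz
  have hid : ∀ c ∈ U, 2 * (if f c = 0 then (1 : ℤ) else 0) = 2 - 3 * f c + f c * f c := by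
    intro c hc
    simp only [hU, mem_filter, mem_univ, true_and] at hc
    obtain ⟨h1, h2, h3, h4⟩ := hc
    have hle := card_le_two hG hxb (Ne.symm h1) (Ne.symm h2) nxb h3 h4
    simp only [hf, hP]
    interval_cases ((comm G x b ∩ nb G c).card) <;> norm_num
  have hsum : ∑ c ∈ U, 2 * (if f c = 0 then (1 : ℤ) else 0) = 6 := by
    rw [sum_congr rfl hid, sum_add_distrib, sum_sub_distrib, sum_const, ← mul_sum, hone, hsq, hUc]
    norm_num
  rw [← mul_sum, sum_boole] at hsum
  rw [hzero]
  omega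

variable (G) in
/-- Five vertices any three of which are non-adjacent without common neighbour. -/
def Quint (Q : Finset V) : Prop :=
  Q.card = 5 ∧ ∀ a ∈ Q, ∀ b ∈ Q, ∀ c ∈ Q, a ≠ b → a ≠ c → b ≠ c → T0 G a b c

variable (G) in
/-- The class of `b` seen from `x`. -/
def cls4 (x b : V) : Finset V := insert b (ext3 G x b)

theorem self_mem_cls4 (x b : V) : b ∈ cls4 G x b := mem_insert_self _ _

theorem card_cls4 (hG : G.IsSRGWith 77 16 0 4) {x b : V} (hxb : x ≠ b) (nxb : ¬ G.Adj x b) :
    (cls4 G x b).card = 4 := by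
  rw [cls4, card_insert_of_notMem (fun h => (mem_ext3.1 h).2.2.1 rfl), card_ext3 hG hxb nxb]

theorem cls4_far {x b c : V} (hxb : x ≠ b) (nxb : ¬ G.Adj x b) (hc : c ∈ cls4 G x b) :
    x ≠ c ∧ ¬ G.Adj x c := by
  rcases mem_insert.1 hc with rfl | hc
  · exact ⟨hxb, nxb⟩
  · exact ⟨(mem_ext3.1 hc).2.1, (mem_ext3.1 hc).2.2.2.2.1⟩

theorem cls4_pair (hG : G.IsSRGWith 77 16 0 4) {x b c d : V}
    (hc : c ∈ cls4 G x b) (hd : d ∈ cls4 G x b) (hcd : c ≠ d) : T0 G x c d := by
  rcases mem_insert.1 hc with rfl | hc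
  · rcases mem_insert.1 hd with rfl | hd
    · exact absurd rfl hcd
    · exact mem_ext3.1 hd
  · rcases mem_insert.1 hd with rfl | hd
    · exact (mem_ext3.1 hc).swap₂₃
    · exact (mem_ext3.1 hc).trans hG (mem_ext3.1 hd) hcd

theorem cls4_eq (hG : G.IsSRGWith 77 16 0 4) {x b c : V} (hxb : x ≠ b) (nxb : ¬ G.Adj x b)
    (hc : c ∈ cls4 G x b) : cls4 G x c = cls4 G x b := by
  refine (eq_of_subset_of_card_le (fun d hd => ?_) ?_).symm
  · by_cases h : d = c
    · rw [h]; exact self_mem_cls4 x c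
    · exact mem_insert_of_mem (mem_ext3.2 (cls4_pair hG hc hd (Ne.symm h)))
  · rw [card_cls4 hG hxb nxb, card_cls4 hG (cls4_far hxb nxb hc).1 (cls4_far hxb nxb hc).2]

theorem quint_cls4 (hG : G.IsSRGWith 77 16 0 4) {x b : V} (hxb : x ≠ b) (nxb : ¬ G.Adj x b) :
    Quint G (insert x (cls4 G x b)) := by
  have hx : x ∉ cls4 G x b := fun h => (cls4_far hxb nxb h).1 rfl
  refine ⟨by rw [card_insert_of_notMem hx, card_cls4 hG hxb nxb], ?_⟩
  intro a ha c hc d hd hac had hcd
  rcases mem_insert.1 ha with rfl | ha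
  · exact cls4_pair hG ((mem_insert.1 hc).resolve_left (Ne.symm hac))
      ((mem_insert.1 hd).resolve_left (Ne.symm had)) hcd
  · rcases mem_insert.1 hc with rfl | hc
    · exact (cls4_pair hG ha ((mem_insert.1 hd).resolve_left (Ne.symm hcd)) had).swap₁₂
    · rcases mem_insert.1 hd with rfl | hd
      · exact (cls4_pair hG ha hc hac).swap₁₂.swap₂₃
      · have h1 : T0 G a x c := (cls4_pair hG ha hc hac).swap₁₂
        have h2 : T0 G a x d := (cls4_pair hG ha hd had).swap₁₂
        exact h1.trans hG h2 hcd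

/-- Every neighbour of a member of a quintuple is joined to exactly one other member. -/
theorem Quint.card_adj (hG : G.IsSRGWith 77 16 0 4) {Q : Finset V} (hQ : Quint G Q) {y v : V}
    (hy : y ∈ Q) (hyv : G.Adj y v) : ((Q.erase y).filter fun z => G.Adj z v).card = 1 := by
  classical
  obtain ⟨hc, hT⟩ := hQ
  have hne : ∀ z ∈ Q.erase y, y ≠ z ∧ ¬ G.Adj y z := by
    intro z hz
    obtain ⟨hzy, hzQ⟩ := mem_erase.1 hz
    obtain ⟨w, hw⟩ : ((Q.erase y).erase z).Nonempty := by
      rw [← card_pos, card_erase_of_mem hz, card_erase_of_mem hy, hc]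
      norm_num
    have hw1 := mem_erase.1 hw
    have hw2 := mem_erase.1 hw1.2
    exact ⟨Ne.symm hzy,
      (hT y hy z hzQ w hw2.2 (Ne.symm hzy) (Ne.symm hw2.1) (Ne.symm hw1.1)).2.2.2.1⟩
  have hdisj : ((Q.erase y : Finset V) : Set V).PairwiseDisjoint fun z => comm G y z := by
    intro z hz w hw hzw
    rw [Function.onFun, disjoint_left]
    intro p hp hp'
    have hz' := mem_erase.1 (mem_coe.1 hz)
    have hw' := mem_erase.1 (mem_coe.1 hw)
    exact (hT y hy z hz'.2 w hw'.2 (Ne.symm hz'.1) (Ne.symm hw'.1) hzw).2.2.2.2.2.2 p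
      (mem_comm.1 hp).1 (mem_comm.1 hp).2 (mem_comm.1 hp').2
  have hcover : (Q.erase y).biUnion (fun z => comm G y z) = nb G y := by
    refine eq_of_subset_of_card_le (biUnion_subset.2 fun z _ p hp => mem_nb.2 (mem_comm.1 hp).1) ?_
    rw [card_biUnion hdisj, sum_congr rfl fun z hz => card_comm_four hG (hne z hz).1 (hne z hz).2,
      sum_const, card_erase_of_mem hy, hc, card_nb hG]
    norm_num
  have hv : v ∈ (Q.erase y).biUnion (fun z => comm G y z) := by rw [hcover]; exact mem_nb.2 hyv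
  obtain ⟨z, hz, hzv⟩ := mem_biUnion.1 hv
  rw [card_eq_one]
  refine ⟨z, eq_singleton_iff_unique_mem.2 ⟨mem_filter.2 ⟨hz, (mem_comm.1 hzv).2⟩, fun w hw => ?_⟩⟩
  by_contra hwz
  exact disjoint_left.1 (hdisj (mem_coe.2 hz) (mem_coe.2 (mem_filter.1 hw).1) (Ne.symm hwz)) hzv
    (mem_comm.2 ⟨hyv, (mem_filter.1 hw).2⟩)

theorem Quint.adj_zero_or_two (hG : G.IsSRGWith 77 16 0 4) {Q : Finset V} (hQ : Quint G Q) (v : V) :
    (Q.filter fun z => G.Adj z v).card = 0 ∨ (Q.filter fun z => G.Adj z v).card = 2 := by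
  classical
  by_cases h : ∃ y ∈ Q, G.Adj y v
  · right
    obtain ⟨y, hy, hyv⟩ := h
    conv_lhs => rw [← insert_erase hy, filter_insert, if_pos hyv]
    rw [card_insert_of_notMem, hQ.card_adj hG hy hyv]
    simp
  · left
    rw [card_eq_zero, filter_eq_empty_iff]
    exact fun z hz hzv => h ⟨z, hz, hzv⟩

end Cfsg.Agent.SRG77
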