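import Cfsg.Agent.Lib.SRG77.Search
import Mathlib.Data.Finset.Image
import Mathlib.Data.Fintype.EquivFin
import Mathlib.Data.Finset.Lattice.Fold
import Mathlib.Algebra.Order.BigOperators.Group.Finset
import Mathlib.Tactic.NormNum

/-!
# Uniqueness of fifteen classes of four blocks on sixteen points
-/

set_option autoImplicit false

namespace Cfsg.Agent.SRG77

open Finset

/-- A class: a set of blocks. -/
abbrev Cls := Finset (Finset (Fin 16))

/-- The set of points of a mask. -/
def toSet (m : ℕ) : Finset (Fin 16) := univ.filter fun i => m.testBit i.val = true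

/-- The class given by a list of masks. -/
def clsOf (L : List ℕ) : Cls := (L.map toSet).toFinset

/-- A candidate class. -/
def cset (i : ℕ) : Cls := clsOf (clsM i)

/-- The classes of a completion, with rows and columns. -/
def designOf (s : List ℕ) : Finset Cls := insert (clsOf rowM) (insert (clsOf colM) (s.map cset).toFinset)

/-- The standard design. -/
def canon : Finset Cls := designOf (solsL.getD 0 [])

/-- Fifteen classes of four blocks with the properties coming from the graph. -/
structure IsDes (D : Finset Cls) : Prop where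
  four : ∀ K ∈ D, K.card = 4
  bsize : ∀ K ∈ D, ∀ b ∈ K, b.card = 4
  cover : ∀ K ∈ D, ∀ p : Fin 16, ∃ b ∈ K, p ∈ b
  disj : ∀ K ∈ D, ∀ b ∈ K, ∀ c ∈ K, b ≠ c → Disjoint b c
  le2 : ∀ K ∈ D, ∀ L ∈ D, K ≠ L → ∀ b ∈ K, ∀ c ∈ L, (b ∩ c).card ≤ 2
  zt : ∀ K ∈ D, ∀ L ∈ D, K ≠ L → ∀ b ∈ K,
    (L.filter fun c => Disjoint b c).card = 0 ∨ (L.filter fun c => Disjoint b c).card = 2
  tri : ∀ K ∈ D, ∀ L ∈ D, ∀ M ∈ D, K ≠ L → K ≠ M → L ≠ M → ∀ b ∈ K, ∀ c ∈ L, ∀ d ∈ M,
    Disjoint b c → Disjoint b d → ¬ Disjoint c d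
  pairs : ∀ p q : Fin 16, p ≠ q → (D.filter fun K => ∃ b ∈ K, p ∈ b ∧ q ∈ b).card = 3

theorem mem_toSet {m : ℕ} {i : Fin 16} : i ∈ toSet m ↔ m.testBit i.val = true := by simp [toSet]

theorem testBit_high {m i : ℕ} (hm : m < 65536) (hi : 16 ≤ i) : m.testBit i = false :=
  Nat.testBit_lt_two_pow (Nat.lt_of_lt_of_le (by simpa using hm) (Nat.pow_le_pow_right (by norm_num) hi : 2 ^ 16 ≤ 2 ^ i))

theorem toSet_inj {a b : ℕ} (ha : a < 65536) (hb : b < 65536) (h : toSet a = toSet b) : a = b := by
  refine Nat.eq_of_testBit_eq fun i => ?_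
  by_cases hi : i < 16
  · have e := congrArg (fun s : Finset (Fin 16) => decide ((⟨i, hi⟩ : Fin 16) ∈ s)) h
    simpa [mem_toSet] using e
  · rw [testBit_high ha (by omega), testBit_high hb (by omega)]

theorem disjM_iff {a b : ℕ} (ha : a < 65536) : disjM a b = true ↔ Disjoint (toSet a) (toSet b) := by
  rw [disjM, beq_iff_eq, disjoint_left]
  constructor
  · intro h i hia hib
    rw [mem_toSet] at hia hib
    have e := congrArg (fun m : ℕ => m.testBit i.val) h
    simp [hia, hib] at e
  · intro h
    refine Nat.eq_of_testBit_eq fun i => ?_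
    rw [Nat.testBit_and, Nat.zero_testBit]
    by_cases hi : i < 16
    · cases hia : a.testBit i
      · rfl
      · cases hib : b.testBit i
        · rfl
        · exact absurd (mem_toSet.2 hib) (h (a := ⟨i, hi⟩) (mem_toSet.2 hia))
    · rw [testBit_high ha (by omega)]
      rfl

theorem card_filter_clsOf {L : List ℕ} (h4 : (clsOf L).card = L.length) (P : Finset (Fin 16) → Prop)
    [DecidablePred P] (B : ℕ → Bool) (hB : ∀ m ∈ L, (B m = true ↔ P (toSet m))) :
    ((clsOf L).filter P).card = (L.filter B).length := by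
  have hnd : (L.map toSet).Nodup := by
    rw [← List.dedup_eq_self]
    refine (List.dedup_sublist _).eq_of_length ?_
    rw [List.length_map, ← h4, clsOf, List.card_toFinset]
  have hset : (clsOf L).filter P = ((L.filter B).map toSet).toFinset := by
    ext s
    simp only [clsOf, mem_filter, List.mem_toFinset, List.mem_map, List.mem_filter]
    constructor
    · rintro ⟨⟨m, hm, rfl⟩, hs⟩
      exact ⟨m, ⟨hm, (hB m hm).2 hs⟩, rfl⟩
    · rintro ⟨m, ⟨hm, hb⟩, rfl⟩
      exact ⟨⟨m, hm, rfl⟩, (hB m hm).1 hb⟩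
  rw [hset, List.toFinset_card_of_nodup, List.length_map]
  exact hnd.sublist ((List.filter_sublist (l := L)).map toSet)

theorem interCount_spec (a b : ℕ) : interCount a b = (toSet a ∩ toSet b).card := by
  have e : toSet a ∩ toSet b = univ.filter fun i : Fin 16 => (a.testBit i.val && b.testBit i.val) = true := by
    ext i; simp [mem_toSet]
  rw [e, ← card_map Fin.valEmbedding]
  have e2 : (univ.filter fun i : Fin 16 => (a.testBit i.val && b.testBit i.val) = true).map Fin.valEmbedding
      = (Finset.range 16).filter fun i => (a.testBit i && b.testBit i) = true := by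
    ext i
    simp only [mem_map, mem_filter, mem_univ, true_and, Fin.valEmbedding_apply, Finset.mem_range]
    constructor
    · rintro ⟨j, hj, rfl⟩; exact ⟨j.isLt, hj⟩
    · rintro ⟨hi, hh⟩; exact ⟨⟨i, hi⟩, hh, rfl⟩
  rw [e2, interCount]
  simp [Finset.card_def, Finset.filter_val, Multiset.range]

/-- A block fitting the rows and columns, as a set. -/
def GoodS (s : Finset (Fin 16)) : Prop :=
  ∀ E ∈ [rowM, colM], (∀ r ∈ E, (s ∩ toSet r).card ≤ 2) ∧
    ((E.filter fun r => decide (Disjoint s (toSet r))).length = 0 ∨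
      (E.filter fun r => decide (Disjoint s (toSet r))).length = 2)

theorem quads_ok : (List.range 16).all (fun a => (List.range a).all fun b => (List.range b).all fun c =>
    (List.range c).all fun d =>
      !goodB (2 ^ a ||| 2 ^ b ||| 2 ^ c ||| 2 ^ d) || blkL.contains (2 ^ a ||| 2 ^ b ||| 2 ^ c ||| 2 ^ d))
    = true := by decide +kernel

theorem blk_complete {s : Finset (Fin 16)} (hs : s.card = 4) (hg : GoodS s) :
    ∃ m ∈ blkL, toSet m = s := by
  classical
  set P : ℕ → Bool := fun i => decide (∃ h : i < 16, (⟨i, h⟩ : Fin 16) ∈ s) with hP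
  set l : List ℕ := (List.range 16).filter P with hl
  have hmem : ∀ i, i ∈ l ↔ ∃ h : i < 16, (⟨i, h⟩ : Fin 16) ∈ s := fun i => by
    rw [hl, List.mem_filter, List.mem_range, hP]
    simp only [decide_eq_true_eq]
    exact ⟨fun h => h.2, fun h => ⟨h.1, h⟩⟩
  have hnd : l.Nodup := List.nodup_range.filter _
  have hlen : l.length = 4 := by
    rw [← List.toFinset_card_of_nodup hnd, ← hs, ← card_map Fin.valEmbedding (s := s)]
    congr 1
    ext i
    simp only [List.mem_toFinset, hmem, mem_map, Fin.valEmbedding_apply]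
    exact ⟨fun ⟨h, hi⟩ => ⟨⟨i, h⟩, hi, rfl⟩, fun ⟨j, hj, e⟩ => e ▸ ⟨j.isLt, hj⟩⟩
  have hpw : l.Pairwise (· < ·) := List.pairwise_lt_range.filter _
  obtain ⟨d, c, b, a, hd⟩ : ∃ d c b a, l = [d, c, b, a] := by
    match l, hlen with
    | [d, c, b, a], _ => exact ⟨d, c, b, a, rfl⟩
  rw [hd] at hpw hmem
  simp only [List.pairwise_cons, List.mem_cons, List.not_mem_nil, or_false, forall_eq_or_imp, forall_eq,
    List.Pairwise.nil, and_true, IsEmpty.forall_iff, implies_true] at hpw
  set m := 2 ^ a ||| 2 ^ b ||| 2 ^ c ||| 2 ^ d with hm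
  have ha : a < 16 := ((hmem a).1 (by simp)).1
  have hlt : ∀ i, i ≤ a → 2 ^ i < 65536 := fun i hi =>
    lt_of_le_of_lt (Nat.pow_le_pow_right (by norm_num) (show i ≤ 15 by omega)) (by norm_num)
  have h16 : (65536 : ℕ) = 2 ^ 16 := by norm_num
  have hm16 : m < 65536 := by
    have l1 := hlt a le_rfl
    have l2 := hlt b (by omega)
    have l3 := hlt c (by omega)
    have l4 := hlt d (by omega)
    rw [h16] at l1 l2 l3 l4 ⊢
    exact Nat.or_lt_two_pow (Nat.or_lt_two_pow (Nat.or_lt_two_pow l1 l2) l3) l4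
  have hset : toSet m = s := by
    ext i
    rw [mem_toSet, hm]
    simp only [Nat.testBit_or, Nat.testBit_two_pow, Bool.or_eq_true, decide_eq_true_eq]
    have h := hmem i.val
    simp only [List.mem_cons, List.not_mem_nil, or_false, Fin.eta, exists_prop, i.isLt, true_and] at h
    rw [← h]
    omega
  refine ⟨m, ?_, hset⟩
  have h := quads_ok
  simp only [List.all_eq_true, List.mem_range, Bool.or_eq_true, Bool.not_eq_true',
    List.contains_iff_mem] at h
  refine (h a ha b (by omega) c (by omega) d (by omega)).resolve_left ?_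
  have g1 := hg rowM (by simp)
  have g2 := hg colM (by simp)
  have e : ∀ E : List ℕ, (E.filter fun r => disjM m r)
      = E.filter fun r => decide (Disjoint s (toSet r)) := fun E => by
    refine List.filter_congr fun r _ => ?_
    rw [Bool.eq_iff_iff, disjM_iff hm16, hset, decide_eq_true_iff]
  simp only [← hm, goodB, e, interCount_spec, hset, Bool.and_eq_false_iff]
  rw [not_or, not_or, not_or]
  simp only [Bool.not_eq_false, List.all_eq_true, decide_eq_true_eq]
  exact ⟨⟨⟨g1.1, g2.1⟩, by rcases g1.2 with h | h <;> simp [h]⟩, by rcases g2.2 with h | h <;> simp [h]⟩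

theorem blk_lt {m : ℕ} (h : m ∈ blkL) : m < 65536 := by
  have := masks_lt
  simp only [Bool.and_eq_true, List.all_eq_true, decide_eq_true_eq] at this
  exact this.1 m h

theorem clsM_lt {i m : ℕ} (h : m ∈ clsM i) : m < 65536 := by
  have h2 := masks_lt
  simp only [Bool.and_eq_true, List.all_eq_true, decide_eq_true_eq] at h2
  rw [clsM] at h
  by_cases hi : i < clsL.length
  · rw [List.getD_eq_getElem _ _ hi] at h
    exact h2.2 _ (List.getElem_mem hi) m h
  · rw [List.getD_eq_default _ _ (by omega)] at h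
    simp at h

theorem rowM_lt {m : ℕ} (h : m ∈ rowM) : m < 65536 := by
  simp [rowM] at h; omega

theorem colM_lt {m : ℕ} (h : m ∈ colM) : m < 65536 := by
  simp [colM] at h; omega

theorem lowPt_spec {m : ℕ} (h : ∃ p < 16, m.testBit p = false) :
    lowPt m < 16 ∧ m.testBit (lowPt m) = false := by
  obtain ⟨p, hp, hm⟩ := h
  cases e : (List.range 16).find? (fun p => !m.testBit p) with
  | none =>
    rw [List.find?_eq_none] at e
    exact absurd (e p (List.mem_range.2 hp)) (by simp [hm])
  | some q =>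
    rw [lowPt, e]
    exact ⟨List.mem_range.1 (List.mem_of_find?_eq_some e), by simpa using List.find?_some e⟩

section Des

variable {D : Finset Cls} (hD : IsDes D) (hR : clsOf rowM ∈ D) (hC : clsOf colM ∈ D)

include hD in
theorem ztB_of {E A : List ℕ} (hE : ∀ m ∈ E, m < 65536)
    (hEA : clsOf E ∈ D) (hAD : clsOf A ∈ D) (hne : clsOf E ≠ clsOf A) (hlen : A.length = 4) :
    ztB E A = true := by
  simp only [ztB, List.all_eq_true]
  intro e he
  have h := hD.zt _ hEA _ hAD hne (toSet e) (by simp [clsOf]; exact ⟨e, he, rfl⟩)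
  rw [card_filter_clsOf (by rw [hD.four _ hAD, hlen]) _ (fun b => disjM e b)
    (fun m _ => disjM_iff (hE e he))] at h
  rcases h with h | h <;> simp [h]

include hD hR hC in
theorem exists_index {K : Cls} (hK : K ∈ D) (hKR : K ≠ clsOf rowM) (hKC : K ≠ clsOf colM) :
    ∃ i < 159, cset i = K := by
  have hgood : ∀ b ∈ K, GoodS b := by
    intro b hb E hE
    have hEl : clsOf E ∈ D ∧ K ≠ clsOf E ∧ E.length = 4 := by
      simp only [List.mem_cons, List.not_mem_nil, or_false] at hE
      rcases hE with rfl | rfl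
      · exact ⟨hR, hKR, rfl⟩
      · exact ⟨hC, hKC, rfl⟩
    refine ⟨fun r hr => hD.le2 K hK _ hEl.1 hEl.2.1 b hb (toSet r) (by simp [clsOf]; exact ⟨r, hr, rfl⟩), ?_⟩
    have h := hD.zt K hK _ hEl.1 hEl.2.1 b hb
    rwa [card_filter_clsOf (by rw [hD.four _ hEl.1, hEl.2.2]) _ (fun r => decide (Disjoint b (toSet r)))
      (fun m _ => decide_eq_true_iff)] at h
  have hmask : ∀ p : Fin 16, ∃ m ∈ blkL, toSet m ∈ K ∧ m.testBit p.val = true := by
    intro p
    obtain ⟨b, hb, hp⟩ := hD.cover K hK p
    obtain ⟨m, hm, rfl⟩ := blk_complete (hD.bsize K hK b hb) (hgood b hb)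
    exact ⟨m, hm, hb, mem_toSet.1 hp⟩
  have hfree : ∀ l : List ℕ, (∀ m ∈ l, toSet m ∈ K) → l.length ≤ 3 →
      ∃ p < 16, (l.foldl (· ||| ·) 0).testBit p = false := by
    intro l hl hlen
    have hor : ∀ (l : List ℕ) (a i : ℕ),
        (l.foldl (· ||| ·) a).testBit i = (a.testBit i || l.any fun m => m.testBit i) := by
      intro l
      induction l with
      | nil => intro a i; simp
      | cons x l ih => intro a i; rw [List.foldl_cons, ih, Nat.testBit_or, List.any_cons, Bool.or_assoc]
    have hcard : (l.map toSet).toFinset.biUnion id ≠ (univ : Finset (Fin 16)) := by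
      intro h
      have h1 : ((l.map toSet).toFinset.biUnion id).card ≤ 4 * (l.map toSet).toFinset.card := by
        rw [mul_comm]
        refine card_biUnion_le_card_mul _ _ _ fun s hs => ?_
        rw [List.mem_toFinset, List.mem_map] at hs
        obtain ⟨m, hm, rfl⟩ := hs
        exact (hD.bsize K hK _ (hl m hm)).le
      have h2 : (l.map toSet).toFinset.card ≤ 3 :=
        (List.toFinset_card_le _).trans (by simpa using hlen)
      rw [h, card_univ, Fintype.card_fin] at h1
      omega
    obtain ⟨p, hp⟩ : ∃ p : Fin 16, p ∉ (l.map toSet).toFinset.biUnion id := by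
      by_contra hcon
      exact hcard (eq_univ_of_forall fun p => by_contra fun hp => hcon ⟨p, hp⟩)
    refine ⟨p, p.isLt, ?_⟩
    rw [hor, Nat.zero_testBit, Bool.false_or, List.any_eq_false]
    intro m hm hbit
    refine hp ?_
    rw [mem_biUnion]
    exact ⟨toSet m, by simp; exact ⟨m, hm, rfl⟩, mem_toSet.2 hbit⟩
  obtain ⟨m1, g1, k1, t1⟩ := hmask 0
  obtain ⟨l1, u1⟩ := lowPt_spec (m := m1) (by simpa using hfree [m1] (by simpa using k1) (by simp))
  obtain ⟨m2, g2, k2, t2⟩ := hmask ⟨_, l1⟩
  obtain ⟨l2, u2⟩ := lowPt_spec (m := m1 ||| m2)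
    (by simpa using hfree [m1, m2] (by simp [k1, k2]) (by simp))
  obtain ⟨m3, g3, k3, t3⟩ := hmask ⟨_, l2⟩
  obtain ⟨l3, u3⟩ := lowPt_spec (m := m1 ||| m2 ||| m3)
    (by simpa [Nat.or_assoc] using hfree [m1, m2, m3] (by simp [k1, k2, k3]) (by simp))
  obtain ⟨m4, g4, k4, t4⟩ := hmask ⟨_, l3⟩
  simp only [Nat.testBit_or, Bool.or_eq_false_iff] at u2 u3
  have ne : ∀ {a b p : ℕ}, a.testBit p = false → b.testBit p = true → b < 65536 → a < 65536 →
      toSet b ≠ toSet a := by
    intro a b p ha hb hb' ha' e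
    rw [toSet_inj hb' ha' e, ha] at hb
    exact Bool.noConfusion hb
  have n21 := ne u1 t2 (blk_lt g2) (blk_lt g1)
  have n31 := ne u2.1 t3 (blk_lt g3) (blk_lt g1)
  have n32 := ne u2.2 t3 (blk_lt g3) (blk_lt g2)
  have n41 := ne u3.1.1 t4 (blk_lt g4) (blk_lt g1)
  have n42 := ne u3.1.2 t4 (blk_lt g4) (blk_lt g2)
  have n43 := ne u3.2 t4 (blk_lt g4) (blk_lt g3)
  have hK4 : clsOf [m1, m2, m3, m4] = K := by
    refine eq_of_subset_of_card_le (fun s hs => ?_) ?_
    · simp [clsOf] at hs
      rcases hs with rfl | rfl | rfl | rfl <;> assumption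
    · rw [hD.four K hK, clsOf, List.toFinset_card_of_nodup]
      · simp
      · simp [n21.symm, n31.symm, n32.symm, n41.symm, n42.symm, n43.symm]
  have d : ∀ {a b : ℕ}, toSet a ∈ K → toSet b ∈ K → a < 65536 → toSet a ≠ toSet b → disjM a b = true :=
    fun ha hb ha' hne => (disjM_iff ha').2 (hD.disj K hK _ ha _ hb hne)
  have hz1 := ztB_of hD (E := rowM) (A := [m1, m2, m3, m4]) (fun m => rowM_lt) hR (by rw [hK4]; exact hK)
    (by rw [hK4]; exact Ne.symm hKR) rfl
  have hz2 := ztB_of hD (E := colM) (A := [m1, m2, m3, m4]) (fun m => colM_lt) hC (by rw [hK4]; exact hK)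
    (by rw [hK4]; exact Ne.symm hKC) rfl
  have hp := partsOK_eq
  simp only [partsOK, List.all_eq_true, Bool.or_eq_true, Bool.not_eq_true', Bool.and_eq_false_iff] at hp
  have a1 := (hp m1 g1).resolve_left (by simpa using t1)
  have t2' : m2.testBit (lowPt m1) = true := t2
  have t3' : m3.testBit (lowPt (m1 ||| m2)) = true := t3
  have t4' : m4.testBit (lowPt (m1 ||| m2 ||| m3)) = true := t4
  have a2 := (a1 m2 g2).resolve_left (by simp [t2', d k2 k1 (blk_lt g2) n21])
  have a3 := (a2 m3 g3).resolve_left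
    (by simp [t3', d k3 k1 (blk_lt g3) n31, d k3 k2 (blk_lt g3) n32])
  have a4 := (a3 m4 g4).resolve_left
    (by simp [t4', d k4 k1 (blk_lt g4) n41, d k4 k2 (blk_lt g4) n42, d k4 k3 (blk_lt g4) n43, hz1, hz2])
  have a5 := a4
  obtain ⟨i, hi, e⟩ := List.getElem_of_mem (List.contains_iff_mem.1 a5)
  refine ⟨i, by rw [← clsL_length]; exact hi, ?_⟩
  rw [cset, clsM, List.getD_eq_getElem _ _ hi, e, hK4]

include hD hR hC in
theorem comp_bit {i j : ℕ} (hi : i < 159) (hj : j < 159) (hiD : cset i ∈ D) (hjD : cset j ∈ D)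
    (hne : cset i ≠ cset j) (hiR : cset i ≠ clsOf rowM) (hiC : cset i ≠ clsOf colM)
    (hjR : cset j ≠ clsOf rowM) (hjC : cset j ≠ clsOf colM) : (compM i).testBit j = true := by
  have hlen : ∀ k, cset k ∈ D → (clsM k).length = 4 := by
    intro k hk
    have h1 := hD.four _ hk
    rw [cset, clsOf] at h1
    have h2 := List.toFinset_card_le ((clsM k).map toSet)
    rw [h1, List.length_map] at h2
    have h3 : ∀ A ∈ clsL, A.length = 4 := by decide +kernel
    rw [clsM] at h2 ⊢
    by_cases hk' : k < clsL.length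
    · rw [List.getD_eq_getElem _ _ hk']
      exact h3 _ (List.getElem_mem hk')
    · rw [List.getD_eq_default _ _ (by omega)] at h2
      simp at h2
  have tri : ∀ (E : List ℕ), clsOf E ∈ D → cset i ≠ clsOf E → cset j ≠ clsOf E →
      triB E (clsM i) (clsM j) = true := by
    intro E hE hiE hjE
    simp only [triB, List.all_eq_true, Bool.or_eq_true, Bool.not_eq_true']
    intro a ha b hb
    by_cases hab : disjM a b = true
    · refine Or.inr fun e he => ?_
      rw [Bool.and_eq_false_iff]
      by_contra hcon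
      simp only [not_or, Bool.not_eq_false] at hcon
      have hmem : ∀ {L : List ℕ} {m : ℕ}, m ∈ L → toSet m ∈ clsOf L := fun {L m} hm => by
        simp [clsOf]; exact ⟨m, hm, rfl⟩
      exact hD.tri _ hiD _ hjD _ hE hne hiE hjE _ (hmem ha) _ (hmem hb) _ (hmem he)
        ((disjM_iff (clsM_lt ha)).1 hab) ((disjM_iff (clsM_lt ha)).1 hcon.1)
        ((disjM_iff (clsM_lt hb)).1 hcon.2)
    · exact Or.inl (by simpa using hab)
  have hc : compatB (clsM i) (clsM j) = true := by
    simp only [compatB, Bool.and_eq_true]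
    exact ⟨⟨⟨ztB_of hD (fun m => clsM_lt) hiD hjD hne (hlen j hjD),
      ztB_of hD (fun m => clsM_lt) hjD hiD (Ne.symm hne) (hlen i hiD)⟩,
      tri _ hR hiR hjR⟩, tri _ hC hiC hjC⟩
  have h := compL_ok
  simp only [List.all_eq_true, List.mem_range, Bool.or_eq_true, Bool.not_eq_true', beq_iff_eq] at h
  rcases h i hi j hj with (h' | h') | h'
  · exact absurd (congrArg cset h') hne
  · exact h'
  · rw [hc] at h'; exact Bool.noConfusion h'

end Des

section Sound

variable {I : Finset ℕ} (hI : ∀ i ∈ I, i < 159)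
  (hcomp : ∀ i ∈ I, ∀ j ∈ I, i ≠ j → (compM i).testBit j = true)

/-- The state of the search is consistent with the solution. -/
def Inv (I : Finset ℕ) (cur : List ℕ) (rest : ℕ) : Prop :=
  cur.Nodup ∧ (∀ i ∈ cur, i ∈ I) ∧ ∀ i ∈ I, i ∉ cur → rest.testBit i = true

include hcomp in
theorem pick_sound (cov : ℕ) (cont : List ℕ → ℕ → Bool) : ∀ (k : ℕ) (l cur : List ℕ) (rest : ℕ),
    pick cont k l cur rest = true → cur.Nodup → (∀ i ∈ cur, i ∈ I) →
    (I.filter fun i => i ∉ cur ∧ cov.testBit i = true).card = k →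
    (∀ i ∈ I, i ∉ cur → cov.testBit i = true → i ∈ l) →
    (∀ i ∈ I, i ∉ cur → cov.testBit i = false → rest.testBit i = true) →
    ∃ cur' rest', cont cur' rest' = true ∧ Inv I cur' rest' := by
  intro k
  induction k with
  | zero =>
    intro l cur rest h hnd hsub hcard _ hrest
    refine ⟨cur, rest, h, hnd, hsub, fun i hi hic => ?_⟩
    rw [card_eq_zero, filter_eq_empty_iff] at hcard
    exact hrest i hi hic (by simpa [hic] using hcard hi)
  | succ k ih =>
    intro l
    induction l with
    | nil =>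
      intro cur rest _ _ _ hcard hl _
      obtain ⟨i, hi⟩ := card_pos.1 (show 0 < (I.filter fun i => i ∉ cur ∧ cov.testBit i = true).card by omega)
      rw [mem_filter] at hi
      exact absurd (hl i hi.1 hi.2.1 hi.2.2) List.not_mem_nil
    | cons a l ihl =>
      intro cur rest h hnd hsub hcard hl hrest
      simp only [pick, scan, Bool.and_eq_true] at h
      by_cases ha : a ∈ I ∧ a ∉ cur ∧ cov.testBit a = true
      · obtain ⟨haI, hac, hacov⟩ := ha
        refine ih _ _ _ h.1 (List.nodup_cons.2 ⟨hac, hnd⟩) ?_ ?_ ?_ ?_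
        · intro i hi
          rcases List.mem_cons.1 hi with rfl | hi
          · exact haI
          · exact hsub i hi
        · have e : (I.filter fun i => i ∉ a :: cur ∧ cov.testBit i = true)
              = (I.filter fun i => i ∉ cur ∧ cov.testBit i = true).erase a := by
            ext i
            simp only [mem_filter, mem_erase, List.mem_cons, not_or]
            tauto
          rw [e, card_erase_of_mem (mem_filter.2 ⟨haI, hac, hacov⟩), hcard]
          omega
        · intro i hi hic hicov
          rw [List.mem_cons, not_or] at hic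
          rw [List.mem_filter]
          exact ⟨(List.mem_cons.1 (hl i hi hic.2 hicov)).resolve_left hic.1,
            hcomp a haI i hi (Ne.symm hic.1)⟩
        · intro i hi hic hicov
          rw [List.mem_cons, not_or] at hic
          rw [Nat.testBit_and, hrest i hi hic.2 hicov, hcomp a haI i hi (Ne.symm hic.1)]
          rfl
      · refine ihl cur rest (by simp only [pick]; exact h.2) hnd hsub hcard ?_ hrest
        intro i hi hic hicov
        refine (List.mem_cons.1 (hl i hi hic hicov)).resolve_left ?_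
        rintro rfl
        exact ha ⟨hi, hic, hicov⟩

include hI hcomp in
theorem go_sound : ∀ (qs : List (ℕ × ℕ × ℕ × ℕ)) (cur : List ℕ) (cands : ℕ), go qs cur cands = true →
    Inv I cur cands → (∀ q ∈ qs, (I.filter fun i => q.2.2.2.testBit i = true).card = q.2.2.1) →
    ∃ cur' : List ℕ, leafB cur' = true ∧ cur'.toFinset = I := by
  intro qs
  induction qs with
  | nil =>
    intro cur cands h hinv _
    simp only [go, Bool.and_eq_true, beq_iff_eq] at h
    refine ⟨cur, h.2, ?_⟩
    ext i
    rw [List.mem_toFinset]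
    refine ⟨hinv.2.1 i, fun hi => by_contra fun hic => ?_⟩
    have := hinv.2.2 i hi hic
    rw [h.1, Nat.zero_testBit] at this
    exact Bool.noConfusion this
  | cons q qs ih =>
    intro cur cands h hinv hq
    obtain ⟨hnd, hsub, hbit⟩ := hinv
    have hneed := hq q List.mem_cons_self
    have hk : (cur.filter fun i => q.2.2.2.testBit i).length
        = (I.filter fun i => i ∈ cur ∧ q.2.2.2.testBit i = true).card := by
      have e : (I.filter fun i => i ∈ cur ∧ q.2.2.2.testBit i = true)
          = (cur.filter fun i => q.2.2.2.testBit i).toFinset := by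
        ext i
        simp only [mem_filter, List.mem_toFinset, List.mem_filter]
        exact ⟨fun h => h.2, fun h => ⟨hsub i h.1, h⟩⟩
      rw [e, List.toFinset_card_of_nodup (hnd.filter _)]
    have hsplit : (I.filter fun i => q.2.2.2.testBit i = true).card
        = (I.filter fun i => i ∈ cur ∧ q.2.2.2.testBit i = true).card
          + (I.filter fun i => i ∉ cur ∧ q.2.2.2.testBit i = true).card := by
      rw [← card_union_of_disjoint]
      · congr 1
        ext i
        simp only [mem_filter, mem_union]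
        tauto
      · rw [disjoint_left]
        intro i h1 h2
        rw [mem_filter] at h1 h2
        exact h2.2.1 h1.2.1
    simp only [go] at h
    rw [if_neg (show ¬ q.2.2.1 < (cur.filter fun i => q.2.2.2.testBit i).length by omega)] at h
    obtain ⟨cur', rest', hc, hinv'⟩ := pick_sound hcomp q.2.2.2 (go qs) _ _ _ _ h hnd hsub (by omega)
      (fun i hi hic hicov => by
        rw [List.mem_filter, List.mem_range, Nat.testBit_and, hbit i hi hic, hicov]
        exact ⟨hI i hi, rfl⟩)
      (fun i hi hic hicov => by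
        rw [Nat.testBit_xor, Nat.testBit_and, hbit i hi hic, hicov]
        rfl)
    exact ih cur' rest' hc hinv' fun r hr => hq r (List.mem_cons_of_mem _ hr)

end Sound

/-- A relabelling given by a list of values. -/
def permFun (l : List ℕ) (p : Fin 16) : Fin 16 := ⟨l.getD p.val 0 % 16, Nat.mod_lt _ (by norm_num)⟩

theorem sols_canon : ∀ j < 6, Function.Injective (permFun (permsL.getD j [])) ∧
    (designOf (solsL.getD j [])).image (Finset.image (Finset.image (permFun (permsL.getD j [])))) = canon := by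
  decide +kernel

theorem cls_ne : clsOf rowM ≠ clsOf colM := by decide +kernel

theorem inClass_iff (L : List ℕ) (p q : Fin 16) :
    (∃ b ∈ clsOf L, p ∈ b ∧ q ∈ b) ↔ inClass L p.val q.val = true := by
  simp [clsOf, inClass, mem_toSet]

/-- The design is unique. -/
theorem exists_perm_canon {D : Finset Cls} (hD : IsDes D) (hR : clsOf rowM ∈ D) (hC : clsOf colM ∈ D) :
    ∃ g : Equiv.Perm (Fin 16), D.image (Finset.image (Finset.image g)) = canon := by
  classical
  set E : Finset Cls := (D.erase (clsOf rowM)).erase (clsOf colM) with hE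
  have hEm : ∀ K, K ∈ E ↔ K ∈ D ∧ K ≠ clsOf rowM ∧ K ≠ clsOf colM := fun K => by
    simp [hE, mem_erase]; tauto
  have hidx : ∀ K : Cls, ∃ i : ℕ, K ∈ E → i < 159 ∧ cset i = K := by
    intro K
    by_cases h : K ∈ E
    · obtain ⟨h1, h2, h3⟩ := (hEm K).1 h
      obtain ⟨i, hi⟩ := exists_index hD hR hC h1 h2 h3
      exact ⟨i, fun _ => hi⟩
    · exact ⟨0, fun h' => absurd h' h⟩
  choose idx hidx using hidx
  set I : Finset ℕ := E.image idx with hIdef
  have hI : ∀ i ∈ I, i < 159 ∧ cset i ∈ E := by
    intro i hi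
    obtain ⟨K, hK, rfl⟩ := mem_image.1 hi
    exact ⟨(hidx K hK).1, by rw [(hidx K hK).2]; exact hK⟩
  have hinj : ∀ i ∈ I, ∀ j ∈ I, cset i = cset j → i = j := by
    intro i hi j hj e
    obtain ⟨K, hK, rfl⟩ := mem_image.1 hi
    obtain ⟨L, hL, rfl⟩ := mem_image.1 hj
    rw [(hidx K hK).2, (hidx L hL).2] at e
    rw [e]
  have himg : I.image cset = E := by
    rw [hIdef, image_image]
    refine (Finset.image_congr fun K hK => (hidx K hK).2).trans image_id
  have hDeq : D = insert (clsOf rowM) (insert (clsOf colM) (I.image cset)) := by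
    rw [himg, hE, insert_erase (mem_erase.2 ⟨cls_ne.symm, hC⟩), insert_erase hR]
  have hcomp : ∀ i ∈ I, ∀ j ∈ I, i ≠ j → (compM i).testBit j = true := by
    intro i hi j hj hij
    obtain ⟨hi1, hi2⟩ := hI i hi
    obtain ⟨hj1, hj2⟩ := hI j hj
    rw [hEm] at hi2 hj2
    exact comp_bit hD hR hC hi1 hj1 hi2.1 hj2.1 (fun e => hij (hinj i hi j hj e)) hi2.2.1 hi2.2.2
      hj2.2.1 hj2.2.2
  have hneed : ∀ q ∈ pairsL, (I.filter fun i => q.2.2.2.testBit i = true).card = q.2.2.1 := by
    intro q hq
    have h := pairsL_ok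
    simp only [List.all_eq_true, Bool.and_eq_true, decide_eq_true_eq, bne_iff_ne, beq_iff_eq,
      List.mem_range] at h
    obtain ⟨⟨⟨⟨h1, h2⟩, h3⟩, h4⟩, h5⟩ := h q hq
    set p : Fin 16 := ⟨q.1, h1⟩
    set r : Fin 16 := ⟨q.2.1, h2⟩
    have hpr : p ≠ r := fun e => h3 (congrArg Fin.val e)
    have hcount := hD.pairs p r hpr
    have eI : (E.filter fun K => ∃ b ∈ K, p ∈ b ∧ r ∈ b)
        = (I.filter fun i => q.2.2.2.testBit i = true).image cset := by
      rw [← himg, filter_image]
      refine congrArg _ (filter_congr fun i hi => ?_)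
      rw [h5 i (hI i hi).1]
      exact inClass_iff _ p r
    have eIc : (E.filter fun K => ∃ b ∈ K, p ∈ b ∧ r ∈ b).card
        = (I.filter fun i => q.2.2.2.testBit i = true).card := by
      rw [eI, card_image_of_injOn fun i hi j hj e =>
        hinj i (mem_filter.1 hi).1 j (mem_filter.1 hj).1 e]
    have hnR : clsOf rowM ∉ E := fun h => ((hEm _).1 h).2.1 rfl
    have hnC : clsOf colM ∉ E := fun h => ((hEm _).1 h).2.2 rfl
    rw [hDeq, himg, filter_insert, filter_insert] at hcount
    by_cases hr' : inClass rowM q.1 q.2.1 = true <;> by_cases hc' : inClass colM q.1 q.2.1 = true <;>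
      simp only [hr', hc', Bool.false_eq_true, if_true, if_false] at h4 <;>
      simp only [inClass_iff, show p.val = q.1 from rfl, show r.val = q.2.1 from rfl, hr', hc',
        Bool.false_eq_true, if_true, if_false] at hcount
    all_goals
      first
        | (rw [card_insert_of_notMem (by simp [hnR, cls_ne]),
            card_insert_of_notMem (by simp [hnC])] at hcount)
        | (rw [card_insert_of_notMem (by simp [hnR, hnC])] at hcount)
        | skip
      omega
  have hinit : Inv I [] (2 ^ 159 - 1) := by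
    refine ⟨List.nodup_nil, by simp, fun i hi _ => ?_⟩
    rw [Nat.testBit_two_pow_sub_one]
    simpa using (hI i hi).1
  obtain ⟨cur, hleaf, hcur⟩ := go_sound (fun i hi => (hI i hi).1) hcomp pairsL [] _ go_ok hinit hneed
  simp only [leafB, List.any_eq_true, Bool.and_eq_true, List.all_eq_true, List.contains_iff_mem] at hleaf
  obtain ⟨s, hs, h1, h2⟩ := hleaf
  obtain ⟨j, hj, rfl⟩ := List.getElem_of_mem hs
  have hj6 : j < 6 := by
    have : solsL.length = 6 := by decide +kernel
    omega
  obtain ⟨hgi, hg⟩ := sols_canon j hj6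
  refine ⟨Equiv.ofBijective _ ⟨hgi, Finite.injective_iff_surjective.1 hgi⟩, ?_⟩
  rw [List.getD_eq_getElem _ _ hj] at hg
  rw [← hg, hDeq, designOf]
  have e : I.image cset = (solsL[j].map cset).toFinset := by
    rw [← hcur]
    ext K
    simp only [mem_image, List.mem_toFinset, List.mem_map]
    exact ⟨fun ⟨i, hi, e⟩ => ⟨i, h2 i hi, e⟩, fun ⟨i, hi, e⟩ => ⟨i, h1 i hi, e⟩⟩
  rw [e]
  rfl

end Cfsg.Agent.SRG77
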