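import Cfsg.Agent.Lib.SRG77.Config
import Cfsg.Agent.Lib.SRG77.Design
import Mathlib.Logic.Equiv.Fin.Basic

/-!
# Uniqueness of the strongly regular graph with parameters `(77, 16, 0, 4)`
-/

set_option autoImplicit false

namespace Cfsg.Agent.SRG77

open Finset

variable {V : Type*} [Fintype V] [DecidableEq V] {G : SimpleGraph V} [DecidableRel G.Adj] {x : V}

variable (G x) in
/-- The vertices at distance two from `x`. -/
def far : Finset V := univ.filter fun b => x ≠ b ∧ ¬ G.Adj x b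

theorem mem_far {b : V} : b ∈ far G x ↔ x ≠ b ∧ ¬ G.Adj x b := by simp [far]

/-- The points of the block of a vertex. -/
def blk (e : Fin 16 ≃ {z // G.Adj x z}) (b : V) : Finset (Fin 16) :=
  univ.filter fun i => G.Adj b (e i : V)

/-- The classes of blocks. -/
def des (e : Fin 16 ≃ {z // G.Adj x z}) : Finset Cls :=
  (far G x).image fun b => (cls4 G x b).image (blk e)

theorem mem_blk {e : Fin 16 ≃ {z // G.Adj x z}} {b : V} {i : Fin 16} :
    i ∈ blk e b ↔ G.Adj b (e i : V) := by simp [blk]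

theorem mem_des {e : Fin 16 ≃ {z // G.Adj x z}} {K : Cls} :
    K ∈ des e ↔ ∃ b ∈ far G x, (cls4 G x b).image (blk e) = K := by simp [des]

theorem map_blk (e : Fin 16 ≃ {z // G.Adj x z}) (b : V) :
    (blk e b).image (fun i => (e i : V)) = comm G x b := by
  ext z
  simp only [mem_image, mem_blk, mem_comm]
  constructor
  · rintro ⟨i, hi, rfl⟩; exact ⟨(e i).2, hi⟩
  · rintro ⟨h1, h2⟩; exact ⟨e.symm ⟨z, h1⟩, by simpa using h2, by simp⟩

theorem card_blk (hG : G.IsSRGWith 77 16 0 4) (e : Fin 16 ≃ {z // G.Adj x z}) {b : V} (hb : b ∈ far G x) :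
    (blk e b).card = 4 := by
  rw [← card_comm_four hG (mem_far.1 hb).1 (mem_far.1 hb).2, ← map_blk e b,
    card_image_of_injective _ (fun i j h => e.injective (Subtype.ext h))]

theorem disjoint_blk {e : Fin 16 ≃ {z // G.Adj x z}} {b c : V} :
    Disjoint (blk e b) (blk e c) ↔ ∀ z, G.Adj x z → G.Adj b z → ¬ G.Adj c z := by
  rw [disjoint_left]
  constructor
  · intro h z hx hb hc
    exact h (a := e.symm ⟨z, hx⟩) (mem_blk.2 (by simpa using hb)) (mem_blk.2 (by simpa using hc))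
  · intro h i hb hc
    exact h _ (e i).2 (mem_blk.1 hb) (mem_blk.1 hc)

theorem disjoint_of_adj (hG : G.IsSRGWith 77 16 0 4) {e : Fin 16 ≃ {z // G.Adj x z}} {b c : V}
    (h : G.Adj b c) : Disjoint (blk e b) (blk e c) :=
  disjoint_blk.2 fun _ _ hb hc => no_triangle hG hb h hc.symm

theorem blk_inj (hG : G.IsSRGWith 77 16 0 4) {e : Fin 16 ≃ {z // G.Adj x z}} {b c : V}
    (hb : b ∈ far G x) (hc : c ∈ far G x) (h : blk e b = blk e c) : b = c := by
  by_contra hne
  have h4 := card_blk hG e hb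
  by_cases hadj : G.Adj b c
  · have := disjoint_of_adj hG (e := e) hadj
    rw [← h, disjoint_self] at this
    rw [this] at h4
    simp at h4
  · obtain ⟨hxb, nxb⟩ := mem_far.1 hb
    obtain ⟨hxc, nxc⟩ := mem_far.1 hc
    have h2 := card_le_two hG hxb hxc hne nxb nxc hadj
    have e1 : comm G x b ∩ nb G c = comm G x b := by
      refine inter_eq_left.2 fun z hz => ?_
      obtain ⟨h1, -⟩ := mem_comm.1 hz
      rw [← map_blk e b, h, map_blk e c] at hz
      exact mem_nb.2 (mem_comm.1 hz).2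
    rw [e1, card_comm_four hG hxb nxb] at h2
    omega

theorem injOn_blk (hG : G.IsSRGWith 77 16 0 4) (e : Fin 16 ≃ {z // G.Adj x z}) {b : V}
    (hb : b ∈ far G x) : Set.InjOn (blk e) (cls4 G x b : Set V) := fun c hc d hd h =>
  blk_inj hG (mem_far.2 (cls4_far (mem_far.1 hb).1 (mem_far.1 hb).2 hc))
    (mem_far.2 (cls4_far (mem_far.1 hb).1 (mem_far.1 hb).2 hd)) h

theorem cls4_of_disjoint (hG : G.IsSRGWith 77 16 0 4) {e : Fin 16 ≃ {z // G.Adj x z}} {b c : V}
    (hb : b ∈ far G x) (hc : c ∈ far G x) (hd : Disjoint (blk e b) (blk e c)) (hn : ¬ G.Adj b c) :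
    c ∈ cls4 G x b := by
  by_cases h : b = c
  · rw [h]; exact self_mem_cls4 x c
  · exact mem_insert_of_mem (mem_ext3.2 ⟨(mem_far.1 hb).1, (mem_far.1 hc).1, h, (mem_far.1 hb).2,
      (mem_far.1 hc).2, hn, disjoint_blk.1 hd⟩)

theorem card_covering (hG : G.IsSRGWith 77 16 0 4) {b z : V} (hb : b ∈ far G x) (hz : G.Adj x z) :
    ((cls4 G x b).filter fun d => G.Adj d z).card = 1 := by
  obtain ⟨hxb, nxb⟩ := mem_far.1 hb
  have h := (quint_cls4 hG hxb nxb).card_adj hG (mem_insert_self x _) hz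
  rwa [erase_insert fun hx => (cls4_far hxb nxb hx).1 rfl] at h

theorem same_class (hG : G.IsSRGWith 77 16 0 4) {e : Fin 16 ≃ {z // G.Adj x z}} {b c : V}
    (hb : b ∈ far G x) (hc : c ∈ far G x)
    (h : (cls4 G x b).image (blk e) = (cls4 G x c).image (blk e)) : c ∈ cls4 G x b := by
  have h1 : blk e c ∈ (cls4 G x b).image (blk e) := by
    rw [h]; exact mem_image_of_mem _ (self_mem_cls4 x c)
  obtain ⟨d, hd, he⟩ := mem_image.1 h1
  rw [← blk_inj hG (mem_far.2 (cls4_far (mem_far.1 hb).1 (mem_far.1 hb).2 hd)) hc he]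
  exact hd

theorem isDes (hG : G.IsSRGWith 77 16 0 4) (e : Fin 16 ≃ {z // G.Adj x z}) : IsDes (des e) where
  four := by
    intro K hK
    obtain ⟨b, hb, rfl⟩ := mem_des.1 hK
    rw [card_image_of_injOn (injOn_blk hG e hb), card_cls4 hG (mem_far.1 hb).1 (mem_far.1 hb).2]
  bsize := by
    intro K hK s hs
    obtain ⟨b, hb, rfl⟩ := mem_des.1 hK
    obtain ⟨c, hc, rfl⟩ := mem_image.1 hs
    exact card_blk hG e (mem_far.2 (cls4_far (mem_far.1 hb).1 (mem_far.1 hb).2 hc))
  cover := by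
    intro K hK p
    obtain ⟨b, hb, rfl⟩ := mem_des.1 hK
    obtain ⟨d, hd⟩ := card_pos.1 (lt_of_lt_of_eq Nat.one_pos (card_covering hG hb (e p).2).symm)
    rw [mem_filter] at hd
    exact ⟨blk e d, mem_image_of_mem _ hd.1, mem_blk.2 hd.2⟩
  disj := by
    intro K hK s hs t ht hst
    obtain ⟨b, hb, rfl⟩ := mem_des.1 hK
    obtain ⟨c, hc, rfl⟩ := mem_image.1 hs
    obtain ⟨d, hd, rfl⟩ := mem_image.1 ht
    exact disjoint_blk.2 (cls4_pair hG hc hd fun h => hst (by rw [h])).2.2.2.2.2.2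
  le2 := by
    intro K hK L hL hKL s hs t ht
    obtain ⟨b₀, hb₀, rfl⟩ := mem_des.1 hK
    obtain ⟨c₀, hc₀, rfl⟩ := mem_des.1 hL
    obtain ⟨b, hb, rfl⟩ := mem_image.1 hs
    obtain ⟨c, hc, rfl⟩ := mem_image.1 ht
    obtain ⟨hxb, nxb⟩ := cls4_far (mem_far.1 hb₀).1 (mem_far.1 hb₀).2 hb
    obtain ⟨hxc, nxc⟩ := cls4_far (mem_far.1 hc₀).1 (mem_far.1 hc₀).2 hc
    have hbc : b ≠ c := by
      rintro rfl
      exact hKL (by rw [← cls4_eq hG (mem_far.1 hb₀).1 (mem_far.1 hb₀).2 hb,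
        ← cls4_eq hG (mem_far.1 hc₀).1 (mem_far.1 hc₀).2 hc])
    by_cases hadj : G.Adj b c
    · rw [disjoint_iff_inter_eq_empty.1 (disjoint_of_adj hG hadj)]
      simp
    · refine le_trans ?_ (card_le_two hG hxb hxc hbc nxb nxc hadj)
      rw [← card_image_of_injective _ (fun i j h => e.injective (Subtype.ext h) :
        Function.Injective fun i : Fin 16 => (e i : V))]
      refine card_le_card fun z hz => ?_
      obtain ⟨i, hi, rfl⟩ := mem_image.1 hz
      rw [mem_inter, mem_blk, mem_blk] at hi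
      exact mem_inter.2 ⟨mem_comm.2 ⟨(e i).2, hi.1⟩, mem_nb.2 hi.2⟩
  zt := by
    intro K hK L hL hKL s hs
    obtain ⟨b₀, hb₀, rfl⟩ := mem_des.1 hK
    obtain ⟨c₀, hc₀, rfl⟩ := mem_des.1 hL
    obtain ⟨b, hb, rfl⟩ := mem_image.1 hs
    obtain ⟨hxc, nxc⟩ := mem_far.1 hc₀
    obtain ⟨hxb, nxb⟩ := cls4_far (mem_far.1 hb₀).1 (mem_far.1 hb₀).2 hb
    have key : ∀ d ∈ cls4 G x c₀, (Disjoint (blk e b) (blk e d) ↔ G.Adj d b) := by
      intro d hd
      refine ⟨fun h => by_contra fun hn => ?_, fun h => disjoint_of_adj hG h.symm⟩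
      refine hKL ?_
      have h' := cls4_of_disjoint hG (mem_far.2 ⟨hxb, nxb⟩) (mem_far.2 (cls4_far hxc nxc hd)) h
        (fun h' => hn h'.symm)
      rw [← cls4_eq hG (mem_far.1 hb₀).1 (mem_far.1 hb₀).2 hb, ← cls4_eq hG hxb nxb h',
        cls4_eq hG hxc nxc hd]
    rw [filter_image, card_image_of_injOn fun p hp q hq h =>
      injOn_blk hG e hc₀ (mem_coe.2 (mem_filter.1 hp).1) (mem_coe.2 (mem_filter.1 hq).1) h]
    rw [filter_congr key]
    have h := (quint_cls4 hG hxc nxc).adj_zero_or_two hG b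
    rwa [filter_insert, if_neg nxb] at h
  tri := by
    intro K hK L hL M hM hKL hKM hLM s hs t ht u hu hst hsu htu
    obtain ⟨b₀, hb₀, rfl⟩ := mem_des.1 hK
    obtain ⟨c₀, hc₀, rfl⟩ := mem_des.1 hL
    obtain ⟨d₀, hd₀, rfl⟩ := mem_des.1 hM
    obtain ⟨b, hb, rfl⟩ := mem_image.1 hs
    obtain ⟨c, hc, rfl⟩ := mem_image.1 ht
    obtain ⟨d, hd, rfl⟩ := mem_image.1 hu
    have adj : ∀ {p₀ p q₀ q : V}, p₀ ∈ far G x → q₀ ∈ far G x → p ∈ cls4 G x p₀ → q ∈ cls4 G x q₀ →
        (cls4 G x p₀).image (blk e) ≠ (cls4 G x q₀).image (blk e) →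
        Disjoint (blk e p) (blk e q) → G.Adj p q := by
      intro p₀ p q₀ q hp₀ hq₀ hp hq hne hdis
      by_contra hn
      refine hne ?_
      have hpf := cls4_far (mem_far.1 hp₀).1 (mem_far.1 hp₀).2 hp
      have h' := cls4_of_disjoint hG (mem_far.2 hpf)
        (mem_far.2 (cls4_far (mem_far.1 hq₀).1 (mem_far.1 hq₀).2 hq)) hdis hn
      rw [← cls4_eq hG (mem_far.1 hp₀).1 (mem_far.1 hp₀).2 hp, ← cls4_eq hG hpf.1 hpf.2 h',
        cls4_eq hG (mem_far.1 hq₀).1 (mem_far.1 hq₀).2 hq]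
    exact no_triangle hG (adj hb₀ hc₀ hb hc hKL hst) (adj hb₀ hd₀ hb hd hKM hsu)
      (adj hc₀ hd₀ hc hd hLM htu)
  pairs := by
    intro p q hpq
    set u : V := (e p : V) with hu
    set w : V := (e q : V) with hw
    have huw : u ≠ w := fun h => hpq (e.injective (Subtype.ext h))
    have nuw : ¬ G.Adj u w := no_triangle hG (e p).2 (e q).2
    set C : Finset V := (comm G u w).erase x with hCdef
    have hC : ∀ c ∈ C, c ∈ far G x ∧ G.Adj c u ∧ G.Adj c w := by
      intro c hc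
      obtain ⟨hcx, hc⟩ := mem_erase.1 hc
      obtain ⟨h1, h2⟩ := mem_comm.1 hc
      exact ⟨mem_far.2 ⟨Ne.symm hcx, fun h => no_triangle hG (e p).2 h h1⟩, h1.symm, h2.symm⟩
    have hcard : C.card = 3 := by
      rw [hCdef, card_erase_of_mem (mem_comm.2 ⟨(e p).2.symm, (e q).2.symm⟩), card_comm_four hG huw nuw]
    have himg : (des e).filter (fun K => ∃ s ∈ K, p ∈ s ∧ q ∈ s)
        = C.image fun c => (cls4 G x c).image (blk e) := by
      ext K
      simp only [mem_filter, mem_des, mem_image]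
      constructor
      · rintro ⟨⟨b, hb, rfl⟩, s, hs, hps, hqs⟩
        obtain ⟨c, hc, rfl⟩ := mem_image.1 hs
        obtain ⟨hxb, nxb⟩ := mem_far.1 hb
        refine ⟨c, mem_erase.2 ⟨(cls4_far hxb nxb hc).1.symm,
          mem_comm.2 ⟨(mem_blk.1 hps).symm, (mem_blk.1 hqs).symm⟩⟩, ?_⟩
        rw [cls4_eq hG hxb nxb hc]
      · rintro ⟨c, hc, rfl⟩
        obtain ⟨h1, h2, h3⟩ := hC c hc
        exact ⟨⟨c, h1, rfl⟩, blk e c, mem_image_of_mem _ (self_mem_cls4 x c), mem_blk.2 h2, mem_blk.2 h3⟩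
    rw [himg, card_image_of_injOn, hcard]
    intro c hc d hd h
    by_contra hne
    obtain ⟨hc1, hc2, -⟩ := hC c hc
    obtain ⟨hd1, hd2, -⟩ := hC d hd
    exact (cls4_pair hG (self_mem_cls4 x c) (same_class hG hc1 hd1 h) hne).2.2.2.2.2.2 u (e p).2 hc2 hd2

theorem sum_inter (hG : G.IsSRGWith 77 16 0 4) {b d : V} (hb : b ∈ far G x) (hd : d ∈ far G x) :
    ∑ c ∈ cls4 G x b, (comm G x d ∩ nb G c).card = 4 := by
  have e1 : ∀ c, (comm G x d ∩ nb G c).card = ∑ z ∈ comm G x d, if G.Adj c z then 1 else 0 := by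
    intro c
    rw [sum_boole, Nat.cast_id]
    exact congrArg _ (by ext z; simp [mem_nb])
  rw [sum_congr rfl fun c _ => e1 c, sum_comm]
  have e2 : ∀ z ∈ comm G x d, (∑ c ∈ cls4 G x b, if G.Adj c z then 1 else 0) = 1 := by
    intro z hz
    rw [sum_boole, Nat.cast_id]
    exact card_covering hG hb (mem_comm.1 hz).1
  rw [sum_congr rfl e2, sum_const, card_comm_four hG (mem_far.1 hd).1 (mem_far.1 hd).2, smul_eq_mul, mul_one]

theorem card_far (hG : G.IsSRGWith 77 16 0 4) : (far G x).card = 60 := by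
  have e : far G x = (insert x (nb G x))ᶜ := by
    ext b
    simp [mem_far, mem_nb, eq_comm]
  rw [e, card_compl, hG.card, card_insert_of_notMem (by simp [mem_nb]), card_nb hG]

/-- Two classes with no edge between them exist. -/
theorem exists_square (hG : G.IsSRGWith 77 16 0 4) :
    ∃ b ∈ far G x, ∃ c ∈ far G x, ∀ p ∈ cls4 G x b, ∀ q ∈ cls4 G x c, (comm G x p ∩ nb G q).Nonempty := by
  obtain ⟨b, hb⟩ : (far G x).Nonempty := by
    rw [← card_pos, card_far hG]
    norm_num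
  obtain ⟨hxb, nxb⟩ := mem_far.1 hb
  set S : Finset V := insert b (nb G b \ comm G x b) with hS
  have hSfar : ∀ s ∈ S, s ∈ far G x := by
    intro s hs
    rcases mem_insert.1 hs with rfl | hs
    · exact hb
    · rw [mem_sdiff, mem_nb, mem_comm] at hs
      exact mem_far.2 ⟨fun h => nxb (h ▸ hs.1).symm, fun h => hs.2 ⟨h, hs.1⟩⟩
  have hScard : S.card ≤ 13 := by
    refine (card_insert_le _ _).trans ?_
    rw [card_sdiff_of_subset (fun z hz => mem_nb.2 (mem_comm.1 hz).2), card_nb hG, card_comm_four hG hxb nxb]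
  have hU : (S.biUnion fun s => cls4 G x s).card < (far G x).card := by
    rw [card_far hG]
    calc (S.biUnion fun s => cls4 G x s).card ≤ S.card * 4 :=
          card_biUnion_le_card_mul _ _ _ fun s hs =>
            (card_cls4 hG (mem_far.1 (hSfar s hs)).1 (mem_far.1 (hSfar s hs)).2).le
      _ < 60 := by omega
  obtain ⟨c, hc, hcU⟩ := exists_mem_notMem_of_card_lt_card hU
  obtain ⟨hxc, nxc⟩ := mem_far.1 hc
  rw [mem_biUnion] at hcU
  have hout : ∀ q ∈ cls4 G x c, q ∈ far G x ∧ q ∉ cls4 G x b ∧ ¬ G.Adj b q := by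
    intro q hq
    have hqf := mem_far.2 (cls4_far hxc nxc hq)
    have hself : c ∈ cls4 G x q := by rw [cls4_eq hG hxc nxc hq]; exact self_mem_cls4 x c
    refine ⟨hqf, fun hqb => hcU ⟨b, mem_insert_self _ _, ?_⟩, fun hbq => hcU ⟨q, ?_, hself⟩⟩
    · rw [← cls4_eq hG hxb nxb hqb]; exact hself
    · exact mem_insert_of_mem (mem_sdiff.2 ⟨mem_nb.2 hbq, fun h => (mem_far.1 hqf).2 (mem_comm.1 h).1⟩)
  have hother : ∀ p ∈ cls4 G x b, ∀ q ∈ cls4 G x c, ¬ G.Adj p q → (comm G x p ∩ nb G q).Nonempty := by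
    intro p hp q hq hpq
    by_contra hne
    rw [not_nonempty_iff_eq_empty] at hne
    obtain ⟨hqf, hqb, -⟩ := hout q hq
    obtain ⟨hxp, nxp⟩ := cls4_far hxb nxb hp
    refine hqb ?_
    rw [← cls4_eq hG hxb nxb hp]
    refine mem_insert.2 ?_
    by_cases hqp : q = p
    · exact Or.inl hqp
    · refine Or.inr (mem_ext3.2 ⟨hxp, (mem_far.1 hqf).1, Ne.symm hqp, nxp, (mem_far.1 hqf).2, hpq,
        fun z h1 h2 h3 => ?_⟩)
      have hz : z ∈ comm G x p ∩ nb G q := mem_inter.2 ⟨mem_comm.2 ⟨h1, h2⟩, mem_nb.2 h3⟩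
      rw [hne] at hz
      exact Finset.notMem_empty z hz
  refine ⟨b, hb, c, hc, fun p hp q hq => hother p hp q hq fun hpq => ?_⟩
  obtain ⟨hqf, hqb, hbq⟩ := hout q hq
  have hsymm : ∀ r, comm G x r ∩ nb G q = comm G x q ∩ nb G r := fun r => by
    ext z
    simp [mem_comm, mem_nb]
    tauto
  -- the four blocks of the second class meet the first block in one point each
  have hone : (comm G x q ∩ nb G b).card = 1 := by
    have hsum := sum_inter hG hc hb
    have hpos : ∀ r ∈ cls4 G x c, 1 ≤ (comm G x b ∩ nb G r).card := fun r hr =>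
      card_pos.2 (hother b (self_mem_cls4 x b) r hr (hout r hr).2.2)
    rw [← add_sum_erase _ _ hq] at hsum
    have h3 : 3 ≤ ∑ r ∈ (cls4 G x c).erase q, (comm G x b ∩ nb G r).card := by
      refine le_trans ?_ (card_nsmul_le_sum _ _ 1 fun r hr => hpos r (mem_of_mem_erase hr))
      rw [card_erase_of_mem hq, card_cls4 hG hxc nxc, smul_eq_mul]
    have := hpos q hq
    rw [← hsymm b]
    omega
  -- so it cannot be joined to two blocks of the first class
  have hsum := sum_inter hG hb hqf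
  have hadj := (quint_cls4 hG hxb nxb).adj_zero_or_two hG q
  rw [filter_insert, if_neg (mem_far.1 hqf).2] at hadj
  set A := (cls4 G x b).filter fun r => G.Adj r q with hA
  have hAsub : insert b A ⊆ cls4 G x b := insert_subset (self_mem_cls4 x b) (filter_subset _ _)
  have hA2 : A.card = 2 := by
    refine hadj.resolve_left fun h => ?_
    rw [card_eq_zero] at h
    have : p ∈ A := mem_filter.2 ⟨hp, hpq⟩
    rw [h] at this
    exact Finset.notMem_empty p this
  have hzero : ∀ r ∈ A, (comm G x q ∩ nb G r).card = 0 := by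
    intro r hr
    rw [card_eq_zero]
    refine eq_empty_of_forall_notMem fun z hz => ?_
    rw [mem_inter, mem_comm, mem_nb] at hz
    exact no_triangle hG hz.1.2 (mem_filter.1 hr).2.symm hz.2.symm
  have hbA : b ∉ A := fun h => hbq (mem_filter.1 h).2
  have hrest : (cls4 G x b \ insert b A).card = 1 := by
    rw [card_sdiff_of_subset (insert_subset (self_mem_cls4 x b) (filter_subset _ _)),
      card_insert_of_notMem hbA, hA2, card_cls4 hG hxb nxb]
  obtain ⟨r, hr⟩ := card_eq_one.1 hrest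
  rw [← sum_sdiff hAsub, hr, sum_singleton,
    sum_insert hbA, sum_eq_zero hzero, hone] at hsum
  have hr' : r ∈ cls4 G x b \ insert b A := by rw [hr]; exact mem_singleton_self r
  rw [mem_sdiff] at hr'
  obtain ⟨hxr, nxr⟩ := cls4_far hxb nxb hr'.1
  have hqr : q ≠ r := fun h => hqb (h ▸ hr'.1)
  have nqr : ¬ G.Adj q r := fun h => hr'.2 (mem_insert_of_mem (mem_filter.2 ⟨hr'.1, h.symm⟩))
  have := card_le_two hG (mem_far.1 hqf).1 hxr hqr (mem_far.1 hqf).2 nxr nqr
  omega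

theorem rows_eq : clsOf rowM = univ.image (fun i : Fin 4 => toSet (rowM.getD i.val 0)) := by
  decide +kernel

theorem cols_eq : clsOf colM = univ.image (fun i : Fin 4 => toSet (colM.getD i.val 0)) := by
  decide +kernel

/-- Numbering of the sixteen cells of the square, by rows. -/
def pidx : Fin 4 × Fin 4 ≃ Fin 16 := finProdFinEquiv

theorem rows_bit : ∀ a b c : Fin 4, (toSet (rowM.getD a.val 0)).filter (fun p => p = pidx (b, c))
    = if a = b then {pidx (b, c)} else ∅ := by decide +kernel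

theorem cols_bit : ∀ a b c : Fin 4, (toSet (colM.getD a.val 0)).filter (fun p => p = pidx (b, c))
    = if a = c then {pidx (b, c)} else ∅ := by decide +kernel

/-- Some numbering of the neighbours of `x` gives the standard design. -/
theorem exists_canon (hG : G.IsSRGWith 77 16 0 4) :
    ∃ e : Fin 16 ≃ {z // G.Adj x z}, des e = canon := by
  classical
  obtain ⟨b, hb, c, hc, hne⟩ := exists_square (x := x) hG
  obtain ⟨hxb, nxb⟩ := mem_far.1 hb
  obtain ⟨hxc, nxc⟩ := mem_far.1 hc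
  set β : Fin 4 ≃ {p // p ∈ cls4 G x b} :=
    (Finset.equivFinOfCardEq (card_cls4 hG hxb nxb)).symm with hβ
  set γ : Fin 4 ≃ {p // p ∈ cls4 G x c} :=
    (Finset.equivFinOfCardEq (card_cls4 hG hxc nxc)).symm with hγ
  have hex : ∀ k : Fin 4 × Fin 4, ∃ z : {z // G.Adj x z},
      G.Adj (β k.1 : V) (z : V) ∧ G.Adj (γ k.2 : V) (z : V) := by
    intro k
    obtain ⟨z, hz⟩ := hne _ (β k.1).2 _ (γ k.2).2
    rw [mem_inter, mem_comm, mem_nb] at hz
    exact ⟨⟨z, hz.1.1⟩, hz.1.2, hz.2⟩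
  choose ρ hρ using hex
  have uniq : ∀ {d : V} (_ : d ∈ far G x) (δ : Fin 4 ≃ {p // p ∈ cls4 G x d}) {i j : Fin 4}
      {z : {z // G.Adj x z}}, G.Adj (δ i : V) (z : V) → G.Adj (δ j : V) (z : V) → i = j := by
    intro d hd δ i j z hi hj
    refine δ.injective (Subtype.ext (card_le_one.1 (card_covering hG hd z.2).le _ ?_ _ ?_))
    · exact mem_filter.2 ⟨(δ i).2, hi⟩
    · exact mem_filter.2 ⟨(δ j).2, hj⟩
  have hρi : Function.Injective ρ := fun k l h => Prod.ext
    (uniq hb β (hρ k).1 (h ▸ (hρ l).1)) (uniq hc γ (hρ k).2 (h ▸ (hρ l).2))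
  have hρb : Function.Bijective ρ := by
    rw [Fintype.bijective_iff_injective_and_card]
    refine ⟨hρi, ?_⟩
    rw [Fintype.card_prod, Fintype.card_fin, Fintype.card_subtype]
    exact (card_nb hG x).symm
  set e : Fin 16 ≃ {z // G.Adj x z} := pidx.symm.trans (Equiv.ofBijective ρ hρb) with he
  have hek : ∀ k, e (pidx k) = ρ k := fun k => by simp [he]
  have hmem : ∀ (s : Finset (Fin 16)) (k : Fin 4 × Fin 4) (P : Prop) [Decidable P],
      s.filter (fun p => p = pidx k) = (if P then {pidx k} else ∅) →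
      (pidx k ∈ s ↔ P) := by
    intro s k P _ h
    have h' := congrArg (fun t : Finset (Fin 16) => decide (pidx k ∈ t)) h
    by_cases hP : P <;> simpa [hP] using h'
  have hrow : clsOf rowM = (cls4 G x b).image (blk e) := by
    rw [rows_eq]
    have key : ∀ i, blk e (β i : V) = toSet (rowM.getD i.val 0) := by
      intro i
      ext p
      obtain ⟨k, rfl⟩ := pidx.surjective p
      rw [mem_blk, hek, hmem _ k (i = k.1) (rows_bit i k.1 k.2)]
      exact ⟨fun h => uniq hb β h (hρ k).1, fun h => h ▸ (hρ k).1⟩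
    ext s
    simp only [mem_image, mem_univ, true_and]
    constructor
    · rintro ⟨i, rfl⟩; exact ⟨_, (β i).2, key i⟩
    · rintro ⟨d, hd, rfl⟩
      obtain ⟨i, hi⟩ := β.surjective ⟨d, hd⟩
      exact ⟨i, by rw [← key i, hi]⟩
  have hcol : clsOf colM = (cls4 G x c).image (blk e) := by
    rw [cols_eq]
    have key : ∀ i, blk e (γ i : V) = toSet (colM.getD i.val 0) := by
      intro i
      ext p
      obtain ⟨k, rfl⟩ := pidx.surjective p
      rw [mem_blk, hek, hmem _ k (i = k.2) (cols_bit i k.1 k.2)]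
      exact ⟨fun h => uniq hc γ h (hρ k).2, fun h => h ▸ (hρ k).2⟩
    ext s
    simp only [mem_image, mem_univ, true_and]
    constructor
    · rintro ⟨i, rfl⟩; exact ⟨_, (γ i).2, key i⟩
    · rintro ⟨d, hd, rfl⟩
      obtain ⟨i, hi⟩ := γ.surjective ⟨d, hd⟩
      exact ⟨i, by rw [← key i, hi]⟩
  obtain ⟨g, hg⟩ := exists_perm_canon (isDes hG e) (hrow ▸ mem_des.2 ⟨b, hb, rfl⟩)
    (hcol ▸ mem_des.2 ⟨c, hc, rfl⟩)
  refine ⟨g.symm.trans e, ?_⟩
  rw [← hg]
  have hblk : ∀ d, blk (g.symm.trans e) d = (blk e d).image g := by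
    intro d
    ext p
    rw [mem_blk, mem_image]
    constructor
    · intro h; exact ⟨g.symm p, mem_blk.2 h, g.apply_symm_apply p⟩
    · rintro ⟨i, hi, rfl⟩
      simpa using mem_blk.1 hi
  unfold des
  rw [image_image]
  refine image_congr fun d _ => ?_
  rw [Function.comp_apply, image_image]
  exact image_congr fun p _ => hblk p

theorem adj_iff_design (hG : G.IsSRGWith 77 16 0 4) (e : Fin 16 ≃ {z // G.Adj x z}) {b c : V}
    (hb : b ∈ far G x) (hc : c ∈ far G x) :
    G.Adj b c ↔ Disjoint (blk e b) (blk e c) ∧ ¬ ∃ K ∈ des e, blk e b ∈ K ∧ blk e c ∈ K := by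
  constructor
  · intro h
    refine ⟨disjoint_of_adj hG h, ?_⟩
    rintro ⟨K, hK, hbK, hcK⟩
    obtain ⟨d, hd, rfl⟩ := mem_des.1 hK
    obtain ⟨b', hb', eb⟩ := mem_image.1 hbK
    obtain ⟨c', hc', ec⟩ := mem_image.1 hcK
    obtain ⟨hxd, nxd⟩ := mem_far.1 hd
    rw [blk_inj hG (mem_far.2 (cls4_far hxd nxd hb')) hb eb] at hb'
    rw [blk_inj hG (mem_far.2 (cls4_far hxd nxd hc')) hc ec] at hc'
    exact (cls4_pair hG hb' hc' h.ne).2.2.2.2.2.1 h
  · rintro ⟨h1, h2⟩
    by_contra hn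
    exact h2 ⟨_, mem_des.2 ⟨b, hb, rfl⟩, mem_image_of_mem _ (self_mem_cls4 x b),
      mem_image_of_mem _ (cls4_of_disjoint hG hb hc h1 hn)⟩

/-- Any two such graphs are isomorphic. -/
theorem iso77 {W : Type*} [Fintype W] [DecidableEq W] {H : SimpleGraph W} [DecidableRel H.Adj]
    (hG : G.IsSRGWith 77 16 0 4) (hH : H.IsSRGWith 77 16 0 4) : Nonempty (G ≃g H) := by
  classical
  obtain ⟨x⟩ : Nonempty V := Fintype.card_pos_iff.1 (by rw [hG.card]; norm_num)
  obtain ⟨y⟩ : Nonempty W := Fintype.card_pos_iff.1 (by rw [hH.card]; norm_num)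
  obtain ⟨e, he⟩ := exists_canon (x := x) hG
  obtain ⟨f, hf⟩ := exists_canon (x := y) hH
  have hex : ∀ b : {b // b ∈ far G x}, ∃ c ∈ far H y, blk f c = blk e b.1 := by
    rintro ⟨b, hb⟩
    have h1 : (cls4 G x b).image (blk e) ∈ des f := by rw [hf, ← he]; exact mem_des.2 ⟨b, hb, rfl⟩
    obtain ⟨c, hc, hceq⟩ := mem_des.1 h1
    have h2 : blk e b ∈ (cls4 H y c).image (blk f) := by
      rw [hceq]; exact mem_image_of_mem _ (self_mem_cls4 x b)
    obtain ⟨d, hd, hde⟩ := mem_image.1 h2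
    exact ⟨d, mem_far.2 (cls4_far (mem_far.1 hc).1 (mem_far.1 hc).2 hd), hde⟩
  choose t ht htb using hex
  let φ : V → W := fun v =>
    if hv : G.Adj x v then (f (e.symm ⟨v, hv⟩) : W)
    else if hx : x = v then y else t ⟨v, mem_far.2 ⟨hx, hv⟩⟩
  have φx : φ x = y := by
    simp [φ]
  have φn : ∀ i : Fin 16, φ (e i : V) = (f i : W) := fun i => by
    simp only [φ]
    rw [dif_pos (e i).2]
    simp
  have φf : ∀ b, ∀ hb : b ∈ far G x, φ b = t ⟨b, hb⟩ := fun b hb => by
    simp only [φ]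
    rw [dif_neg (mem_far.1 hb).2, dif_neg (mem_far.1 hb).1]
  have split : ∀ v, v = x ∨ (∃ i, (e i : V) = v) ∨ v ∈ far G x := fun v => by
    by_cases hv : G.Adj x v
    · exact Or.inr (Or.inl ⟨e.symm ⟨v, hv⟩, by simp⟩)
    · by_cases hx : v = x
      · exact Or.inl hx
      · exact Or.inr (Or.inr (mem_far.2 ⟨Ne.symm hx, hv⟩))
  have hadj : ∀ u v, H.Adj (φ u) (φ v) ↔ G.Adj u v := by
    intro u v
    rcases split u with rfl | ⟨i, rfl⟩ | hu <;> rcases split v with rfl | ⟨j, rfl⟩ | hv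
    · exact iff_of_false (H.loopless.irrefl _) (G.loopless.irrefl _)
    · rw [φx, φn]; exact iff_of_true (f j).2 (e j).2
    · rw [φx, φf v hv]; exact iff_of_false (mem_far.1 (ht ⟨v, hv⟩)).2 (mem_far.1 hv).2
    · rw [φx, φn]; exact iff_of_true (f i).2.symm (e i).2.symm
    · rw [φn, φn]; exact iff_of_false (no_triangle hH (f i).2 (f j).2) (no_triangle hG (e i).2 (e j).2)
    · have h := congrArg (fun s : Finset (Fin 16) => i ∈ s) (htb ⟨v, hv⟩)
      simp only [mem_blk, eq_iff_iff] at h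
      rw [φn, φf v hv, H.adj_comm, G.adj_comm]
      exact h
    · rw [φx, φf u hu]
      exact iff_of_false (fun h => (mem_far.1 (ht ⟨u, hu⟩)).2 h.symm) (fun h => (mem_far.1 hu).2 h.symm)
    · have h := congrArg (fun s : Finset (Fin 16) => j ∈ s) (htb ⟨u, hu⟩)
      simp only [mem_blk, eq_iff_iff] at h
      rw [φn, φf u hu]
      exact h
    · rw [φf u hu, φf v hv, adj_iff_design hH f (ht _) (ht _), adj_iff_design hG e hu hv, htb, htb, he, hf]
  have hinj : Function.Injective φ := by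
    intro u v h
    rcases split u with rfl | ⟨i, rfl⟩ | hu <;> rcases split v with rfl | ⟨j, rfl⟩ | hv
    · rfl
    · rw [φx, φn] at h; exact absurd h (f j).2.ne
    · rw [φx, φf v hv] at h; exact absurd h (mem_far.1 (ht ⟨v, hv⟩)).1
    · rw [φx, φn] at h; exact absurd h.symm (f i).2.ne
    · rw [φn, φn] at h
      rw [f.injective (Subtype.ext h)]
    · rw [φn, φf v hv] at h
      exact absurd (h ▸ (f i).2) (mem_far.1 (ht ⟨v, hv⟩)).2
    · rw [φx, φf u hu] at h; exact absurd h.symm (mem_far.1 (ht ⟨u, hu⟩)).1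
    · rw [φn, φf u hu] at h
      exact absurd (h.symm ▸ (f j).2) (mem_far.1 (ht ⟨u, hu⟩)).2
    · rw [φf u hu, φf v hv] at h
      have h1 := htb ⟨u, hu⟩
      rw [h, htb ⟨v, hv⟩] at h1
      exact (blk_inj hG hv hu h1).symm
  have hbij : Function.Bijective φ := by
    rw [Fintype.bijective_iff_injective_and_card]
    exact ⟨hinj, by rw [hG.card, hH.card]⟩
  exact ⟨⟨Equiv.ofBijective φ hbij, fun {u v} => hadj u v⟩⟩

end Cfsg.Agent.SRG77
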