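import Mathlib.Combinatorics.SimpleGraph.StronglyRegular
import Mathlib.Tactic.LinearCombination
import Mathlib.Tactic.Ring
import Mathlib.Tactic.Linarith

/-!
# The positive semidefinite form of a strongly regular graph with parameters `(77, 16, 0, 4)`

The matrix `22 I - 11 A + 2 J` has square equal to `88` times itself, so the associated form is
non-negative on every formal combination of vertex sets.
-/

set_option autoImplicit false

namespace Cfsg.Agent.SRG77

open Finset

variable {V : Type*} [Fintype V] [DecidableEq V] (G : SimpleGraph V) [DecidableRel G.Adj]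

/-- The neighbours of `a`. -/
def nb (a : V) : Finset V := univ.filter fun z => G.Adj a z

/-- The common neighbours of `a` and `b`. -/
def comm (a b : V) : Finset V := univ.filter fun z => G.Adj a z ∧ G.Adj b z

variable {G}

theorem mem_nb {a z : V} : z ∈ nb G a ↔ G.Adj a z := by simp [nb]

theorem mem_comm {a b z : V} : z ∈ comm G a b ↔ G.Adj a z ∧ G.Adj b z := by simp [comm]

theorem comm_eq_inter (a b : V) : comm G a b = nb G a ∩ nb G b := by
  ext z
  simp [mem_comm, mem_nb]

theorem card_nb (hG : G.IsSRGWith 77 16 0 4) (a : V) : (nb G a).card = 16 := by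
  rw [nb, ← hG.regular.degree_eq a, ← G.card_neighborFinset_eq_degree,
    SimpleGraph.neighborFinset_eq_filter]

theorem card_comm (hG : G.IsSRGWith 77 16 0 4) {a b : V} (h : a ≠ b) :
    (comm G a b).card = if G.Adj a b then 0 else 4 := by
  have e : (comm G a b).card = Fintype.card (G.commonNeighbors a b) := by
    rw [Fintype.card_subtype, comm]
    rfl
  rw [e]
  split_ifs with ha
  · exact hG.of_adj a b ha
  · exact hG.of_not_adj h ha

theorem card_comm_four (hG : G.IsSRGWith 77 16 0 4) {a b : V} (h : a ≠ b) (ha : ¬ G.Adj a b) :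
    (comm G a b).card = 4 := by
  rw [card_comm hG h, if_neg ha]

theorem no_triangle (hG : G.IsSRGWith 77 16 0 4) {a b c : V} (hab : G.Adj a b) (hac : G.Adj a c) :
    ¬ G.Adj b c := fun hbc => by
  have h := card_comm hG hab.ne
  rw [if_pos hab, card_eq_zero] at h
  have hc : c ∈ comm G a b := mem_comm.2 ⟨hac, hbc⟩
  rw [h] at hc
  exact Finset.notMem_empty c hc

variable (G)

/-- The entries of `22 I - 11 A + 2 J`. -/
def ent (u v : V) : ℤ :=
  22 * (if u = v then 1 else 0) - 11 * (if G.Adj u v then 1 else 0) + 2

variable {G}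

theorem sum_ent_mul (hG : G.IsSRGWith 77 16 0 4) (u v : V) :
    ∑ z, ent G u z * ent G v z = 88 * ent G u v := by
  classical
  have e1 : ∀ z, ent G u z * ent G v z =
      484 * (if u = z ∧ v = z then (1 : ℤ) else 0) - 242 * (if u = z ∧ G.Adj v z then 1 else 0)
      - 242 * (if v = z ∧ G.Adj u z then 1 else 0) + 44 * (if u = z then 1 else 0)
      + 44 * (if v = z then 1 else 0) + 121 * (if G.Adj u z ∧ G.Adj v z then 1 else 0)
      - 22 * (if G.Adj u z then 1 else 0) - 22 * (if G.Adj v z then 1 else 0) + 4 := by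
    intro z
    unfold ent
    split_ifs <;> first | (exfalso; tauto) | norm_num
  have f1 : ∑ z, (if u = z ∧ v = z then (1 : ℤ) else 0) = if u = v then 1 else 0 := by
    rw [Finset.sum_eq_single u (fun z _ hz => if_neg fun h => hz h.1.symm)
      (fun h => absurd (mem_univ u) h)]
    simp [eq_comm]
  have f2 : ∀ a b : V, ∑ z, (if a = z ∧ G.Adj b z then (1 : ℤ) else 0) = if G.Adj b a then 1 else 0 := by
    intro a b
    rw [Finset.sum_eq_single a (fun z _ hz => if_neg fun h => hz h.1.symm)
      (fun h => absurd (mem_univ a) h)]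
    simp
  have f3 : ∀ a : V, ∑ z, (if a = z then (1 : ℤ) else 0) = 1 := fun a => by simp
  have f4 : ∀ a : V, ∑ z, (if G.Adj a z then (1 : ℤ) else 0) = 16 := fun a => by
    rw [Finset.sum_boole]
    exact_mod_cast card_nb hG a
  have f5 : ∑ z, (if G.Adj u z ∧ G.Adj v z then (1 : ℤ) else 0)
      = 4 + 12 * (if u = v then 1 else 0) - 4 * (if G.Adj u v then 1 else 0) := by
    rw [Finset.sum_boole]
    by_cases huv : u = v
    · subst huv
      rw [if_pos rfl, if_neg (G.loopless.irrefl u)]
      simp only [and_self]
      have := card_nb hG u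
      rw [nb] at this
      rw [this]
      norm_num
    · have h := card_comm hG huv
      rw [comm] at h
      rw [h, if_neg huv]
      split_ifs <;> norm_num
  simp only [e1, Finset.sum_add_distrib, Finset.sum_sub_distrib, ← Finset.mul_sum, f1, f2, f3, f4, f5,
    Finset.sum_const, Finset.card_univ, hG.card]
  have hs : (if G.Adj v u then (1 : ℤ) else 0) = if G.Adj u v then 1 else 0 := by
    simp [G.adj_comm v u]
  rw [hs]
  unfold ent
  split_ifs <;> norm_num

variable (G)

/-- The form on two vertex sets. -/
def form (A B : Finset V) : ℤ := ∑ a ∈ A, ∑ b ∈ B, ent G a b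

variable {G}

theorem form_nonneg (hG : G.IsSRGWith 77 16 0 4) {n : ℕ} (w : Fin n → ℤ) (A : Fin n → Finset V) :
    0 ≤ ∑ k, ∑ l, w k * w l * form G (A k) (A l) := by
  classical
  have h : 88 * (∑ k, ∑ l, w k * w l * form G (A k) (A l))
      = ∑ z, (∑ k, w k * ∑ a ∈ A k, ent G a z) ^ 2 := by
    have e : ∀ k l, 88 * (w k * w l * form G (A k) (A l))
        = ∑ z, (w k * ∑ a ∈ A k, ent G a z) * (w l * ∑ a ∈ A l, ent G a z) := by
      intro k l
      have e2 : ∑ z, (∑ a ∈ A k, ent G a z) * (∑ a ∈ A l, ent G a z) = 88 * form G (A k) (A l) := by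
        simp only [Finset.sum_mul_sum]
        rw [Finset.sum_comm]
        unfold form
        rw [Finset.mul_sum]
        refine Finset.sum_congr rfl fun a _ => ?_
        rw [Finset.sum_comm, Finset.mul_sum]
        exact Finset.sum_congr rfl fun b _ => sum_ent_mul hG a b
      calc 88 * (w k * w l * form G (A k) (A l))
          = w k * w l * (88 * form G (A k) (A l)) := by ring
        _ = w k * w l * ∑ z, (∑ a ∈ A k, ent G a z) * (∑ a ∈ A l, ent G a z) := by rw [e2]
        _ = _ := by
          rw [Finset.mul_sum]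
          exact Finset.sum_congr rfl fun z _ => by ring
    simp only [Finset.mul_sum] at e ⊢
    rw [Finset.sum_congr rfl fun k _ => Finset.sum_congr rfl fun l _ => e k l]
    simp only [← Finset.mul_sum]
    rw [Finset.sum_congr rfl fun k (_ : k ∈ univ) => Finset.sum_comm, Finset.sum_comm]
    refine Finset.sum_congr rfl fun z _ => ?_
    rw [sq, Finset.sum_mul_sum]
  have h2 : (0 : ℤ) ≤ ∑ z, (∑ k, w k * ∑ a ∈ A k, ent G a z) ^ 2 :=
    Finset.sum_nonneg fun z _ => sq_nonneg _
  omega

theorem form_comm (A B : Finset V) : form G A B = form G B A := by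
  unfold form
  rw [Finset.sum_comm]
  refine Finset.sum_congr rfl fun a _ => Finset.sum_congr rfl fun b _ => ?_
  unfold ent
  simp only [eq_comm (a := b) (b := a), G.adj_comm b a]

theorem form_single (a b : V) : form G {a} {b} = ent G a b := by simp [form]

theorem form_single_left (a : V) (B : Finset V) :
    form G {a} B = 22 * (if a ∈ B then 1 else 0) - 11 * ((B ∩ nb G a).card : ℤ) + 2 * B.card := by
  unfold form ent
  rw [Finset.sum_singleton]
  simp only [Finset.sum_add_distrib, Finset.sum_sub_distrib, ← Finset.mul_sum, Finset.sum_ite_eq,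
    Finset.sum_boole, Finset.sum_const]
  have : B.filter (fun z => G.Adj a z) = B ∩ nb G a := by
    ext z; simp [mem_nb]
  rw [this]
  simp [mul_comm]

/-- The form on two sets with no edge between them. -/
theorem form_indep (A B : Finset V) (h : ∀ a ∈ A, ∀ b ∈ B, ¬ G.Adj a b) :
    form G A B = 22 * ((A ∩ B).card : ℤ) + 2 * A.card * B.card := by
  unfold form ent
  have e : ∀ a ∈ A, ∑ b ∈ B,
      (22 * (if a = b then (1 : ℤ) else 0) - 11 * (if G.Adj a b then 1 else 0) + 2)
      = 22 * (if a ∈ B then 1 else 0) + 2 * B.card := by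
    intro a ha
    rw [Finset.sum_congr rfl fun b hb => by rw [if_neg (h a ha b hb), mul_zero, sub_zero]]
    simp [Finset.sum_add_distrib, ← Finset.mul_sum, mul_comm]
  rw [Finset.sum_congr rfl e, Finset.sum_add_distrib, ← Finset.mul_sum, Finset.sum_const, Finset.sum_boole]
  have : A.filter (fun a => a ∈ B) = A ∩ B := Finset.filter_mem_eq_inter
  rw [this]
  simp
  ring

end Cfsg.Agent.SRG77
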