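import Cfsg.Agent.Lib.SRG77.Data
import Mathlib.Data.Finset.Card
import Mathlib.Data.Fintype.Basic
import Mathlib.Logic.Equiv.Basic

/-!
# The finite search behind the uniqueness of the design on sixteen points

Everything here is a computation with bit masks, together with the kernel checks used later.
-/

set_option autoImplicit false

namespace Cfsg.Agent.SRG77

/-- The rows of the square, as masks. -/
def rowM : List ℕ := [15, 240, 3840, 61440]

/-- The columns of the square, as masks. -/
def colM : List ℕ := [4369, 8738, 17476, 34952]

/-- The masks of a candidate class. -/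
def clsM (i : ℕ) : List ℕ := clsL.getD i []

/-- The classes compatible with a candidate class. -/
def compM (i : ℕ) : ℕ := compL.getD i 0

/-- The number of points of a mask lying in another. -/
def interCount (a b : ℕ) : ℕ := ((List.range 16).filter fun p => a.testBit p && b.testBit p).length

/-- Two masks are disjoint. -/
def disjM (a b : ℕ) : Bool := a &&& b == 0

/-- Each block of `A` misses none or two blocks of `B`. -/
def ztB (A B : List ℕ) : Bool :=
  A.all fun a => [0, 2].contains (B.filter fun b => disjM a b).length

/-- No block of `E` misses two disjoint blocks of `A` and `B`. -/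
def triB (E A B : List ℕ) : Bool :=
  A.all fun a => B.all fun b => !disjM a b || E.all fun e => !(disjM a e && disjM b e)

/-- The compatibility of two candidate classes. -/
def compatB (A B : List ℕ) : Bool :=
  ztB A B && ztB B A && triB rowM A B && triB colM A B

/-- A block fitting the rows and columns. -/
def goodB (m : ℕ) : Bool :=
  rowM.all (fun r => interCount m r ≤ 2) && colM.all (fun r => interCount m r ≤ 2) &&
    [0, 2].contains (rowM.filter fun b => disjM m b).length &&
    [0, 2].contains (colM.filter fun b => disjM m b).length

/-- A mask of two points lies in some block of the class. -/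
def inClass (A : List ℕ) (p q : ℕ) : Bool := A.any fun a => a.testBit p && a.testBit q

/-- The least of the sixteen points outside a mask. -/
def lowPt (m : ℕ) : ℕ := ((List.range 16).find? fun p => !m.testBit p).getD 0

/-- All partitions into candidate blocks are candidate classes. -/
def partsOK : Bool :=
  blkL.all fun b₁ => !b₁.testBit 0 ||
    blkL.all fun b₂ => !(b₂.testBit (lowPt b₁) && disjM b₂ b₁) ||
      blkL.all fun b₃ => !(b₃.testBit (lowPt (b₁ ||| b₂)) && disjM b₃ b₁ && disjM b₃ b₂) ||
        blkL.all fun b₄ =>
          !(b₄.testBit (lowPt (b₁ ||| b₂ ||| b₃)) && disjM b₄ b₁ && disjM b₄ b₂ && disjM b₄ b₃) ||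
            !(ztB rowM [b₁, b₂, b₃, b₄] && ztB colM [b₁, b₂, b₃, b₄]) ||
              clsL.contains [b₁, b₂, b₃, b₄]

/-- Try the candidates in turn. -/
def scan (f : List ℕ → List ℕ → ℕ → Bool) : List ℕ → List ℕ → ℕ → Bool
  | [], _, _ => true
  | i :: l, cur, rest =>
    f (l.filter fun j => (compM i).testBit j) (i :: cur) (rest &&& compM i) && scan f l cur rest

/-- Choose so many candidates from a list. -/
def pick (cont : List ℕ → ℕ → Bool) : ℕ → List ℕ → List ℕ → ℕ → Bool
  | 0, _, cur, rest => cont cur rest
  | k + 1, l, cur, rest => scan (pick cont k) l cur rest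

/-- A finished choice is one of the completions. -/
def leafB (cur : List ℕ) : Bool :=
  solsL.any fun s => s.all (fun i => cur.contains i) && cur.all (fun i => s.contains i)

/-- The search over the pairs of points. -/
def go : List (ℕ × ℕ × ℕ × ℕ) → List ℕ → ℕ → Bool
  | [], cur, cands => cands == 0 && leafB cur
  | q :: qs, cur, cands =>
    if q.2.2.1 < (cur.filter fun i => q.2.2.2.testBit i).length then true
    else pick (go qs) (q.2.2.1 - (cur.filter fun i => q.2.2.2.testBit i).length)
      ((List.range 159).filter fun i => (cands &&& q.2.2.2).testBit i) cur
      (cands ^^^ (cands &&& q.2.2.2))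

theorem go_ok : go pairsL [] (2 ^ 159 - 1) = true := by decide +kernel

theorem partsOK_eq : partsOK = true := by decide +kernel

theorem compL_ok : (List.range 159).all (fun i => (List.range 159).all fun j =>
    i == j || (compM i).testBit j || !compatB (clsM i) (clsM j)) = true := by decide +kernel

theorem pairsL_ok : pairsL.all (fun q =>
    decide (q.1 < 16) && decide (q.2.1 < 16) && q.1 != q.2.1 &&
    q.2.2.1 + (if inClass rowM q.1 q.2.1 then 1 else 0) + (if inClass colM q.1 q.2.1 then 1 else 0) == 3 &&
    (List.range 159).all fun i => q.2.2.2.testBit i == inClass (clsM i) q.1 q.2.1) = true := by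
  decide +kernel

theorem masks_lt : (blkL.all (fun m => decide (m < 65536)) &&
    clsL.all (fun A => A.all fun m => decide (m < 65536))) = true := by decide +kernel

theorem clsL_length : clsL.length = 159 := by decide +kernel

theorem solsL_lt : solsL.all (fun s => s.all fun i => decide (i < 159)) = true := by decide +kernel

end Cfsg.Agent.SRG77
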